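import Groth.Agent.OT.PowEigen
import Groth.Prelude.Def_CartDual

/-!
# Power maps of the Cartier dual are transposes
-/

universe u

open WithConv TensorProduct

namespace Groth.Agent.OT

variable (R : Type u) [CommRing R] (A : Type u) [CommRing A] [HopfAlgebra R A] [Coalgebra.IsCocomm R A]
  [Module.Finite R A] [Module.Projective R A]

theorem conv_eval_mul' (w : CartDual.D R A ⊗[R] CartDual.D R A) (a : A) :
    (LinearMap.mul' R (CartDual.D R A) w).ofConv a = CartDual.ev₂ R A w (Coalgebra.comul a) := by
  induction w using TensorProduct.induction_on with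
  | zero => simp
  | tmul x y =>
    rw [LinearMap.mul'_apply, LinearMap.convMul_def, CartDual.ev₂_tmul_eq']
    rfl
  | add x y hx hy => simp only [map_add, WithConv.ofConv_add, LinearMap.add_apply, hx, hy]

theorem ev₂_map (F : CartDual.D R A →ₗ[R] CartDual.D R A) (G : A →ₗ[R] A)
    (h : ∀ x a, (F x).ofConv a = x.ofConv (G a)) (w : CartDual.D R A ⊗[R] CartDual.D R A) (t : A ⊗[R] A) :
    CartDual.ev₂ R A (TensorProduct.map F LinearMap.id w) t =
      CartDual.ev₂ R A w (TensorProduct.map G LinearMap.id t) := by
  induction w using TensorProduct.induction_on with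
  | zero => simp
  | tmul x y =>
    induction t using TensorProduct.induction_on with
    | zero => simp
    | tmul a b => simp [h]
    | add s t hs ht => simp only [map_add, hs, ht]
  | add x y hx hy => simp only [map_add, LinearMap.add_apply, hx, hy]

theorem powConv_succ_apply {B : Type u} [CommRing B] [HopfAlgebra R B] (n : ℕ) (b : B) :
    SGA3b.powConv R B (n + 1) b = LinearMap.mul' R B
      (TensorProduct.map (SGA3b.powConv R B n).toLinearMap LinearMap.id (Coalgebra.comul b)) := by
  rw [SGA3b.powConv, pow_succ]
  rfl

theorem dual_powConv (n : ℕ) (x : CartDual.D R A) (a : A) :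
    (SGA3b.powConv R (CartDual.D R A) n x).ofConv a = x.ofConv (SGA3b.powConv R A n a) := by
  induction n generalizing x a with
  | zero =>
    change (algebraMap R (CartDual.D R A) (x.ofConv 1)).ofConv a = x.ofConv (algebraMap R A (Coalgebra.counit a))
    rw [Algebra.algebraMap_eq_smul_one, Algebra.algebraMap_eq_smul_one, map_smul]
    simp [LinearMap.convOne_def, mul_comm]
  | succ n ih =>
    rw [powConv_succ_apply, powConv_succ_apply, conv_eval_mul',
      ev₂_map R A (SGA3b.powConv R (CartDual.D R A) n).toLinearMap (SGA3b.powConv R A n).toLinearMap ih,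
      CartDual.comul_def, CartDual.ev₂_comul]
    rfl

end Groth.Agent.OT
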