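import Mathlib
import Groth.Agent.SGA3cLib.DeligneField

/-!
# Hopf algebras of dimension `p` over an algebraically closed field have monogenic duals
-/

set_option autoImplicit false

universe u v

open TensorProduct WithConv

namespace Groth.Agent.OT

section Derivation

variable {L : Type u} [Field L] {B : Type v} [CommRing B] [HopfAlgebra L B] (D : B →ₗ[L] L)
  (hD : ∀ a b : B, D (a * b) = Bialgebra.counitAlgHom L B a * D b + D a * Bialgebra.counitAlgHom L B b)

/-- The invariant derivation attached to a derivation at the origin. -/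
noncomputable def invDer : B →ₗ[L] B :=
  (toConv LinearMap.id * toConv (Algebra.linearMap L B ∘ₗ D)).ofConv

theorem convPow_succ_apply (j : ℕ) (x : B) :
    (toConv D ^ (j + 1)).ofConv x = (toConv D ^ j).ofConv (invDer D x) := by
  rw [pow_succ, invDer, LinearMap.convMul_apply, LinearMap.convMul_apply]
  simp only [ofConv_toConv]
  induction Coalgebra.comul (R := L) x using TensorProduct.induction_on with
  | zero => simp
  | tmul a b =>
    rw [TensorProduct.map_tmul, TensorProduct.map_tmul, LinearMap.mul'_apply, LinearMap.mul'_apply,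
      LinearMap.id_apply, LinearMap.comp_apply, Algebra.linearMap_apply, mul_comm a, ← Algebra.smul_def,
      map_smul, smul_eq_mul, mul_comm]
  | add a b ha hb => simp only [map_add, ha, hb]

theorem convPow_zero_apply (x : B) : (toConv D ^ 0).ofConv x = Bialgebra.counitAlgHom L B x := by
  rw [pow_zero, LinearMap.convOne_def]; rfl

theorem counit_invDer (x : B) : Bialgebra.counitAlgHom L B (invDer D x) = D x := by
  rw [← convPow_zero_apply D, ← convPow_succ_apply, pow_one, ofConv_toConv]

/-- the map `w ↦ mul (id ⊗ D) w` -/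
noncomputable def derTens : B ⊗[L] B →ₗ[L] B :=
  LinearMap.mul' L B ∘ₗ TensorProduct.map LinearMap.id (Algebra.linearMap L B ∘ₗ D)

/-- the map `w ↦ mul (id ⊗ ε) w` -/
noncomputable def epsTens : B ⊗[L] B →ₐ[L] B :=
  Algebra.TensorProduct.lift (AlgHom.id L B) ((Algebra.ofId L B).comp (Bialgebra.counitAlgHom L B)) fun _ _ => .all _ _

omit D in
theorem epsTens_comul (x : B) : epsTens (Coalgebra.comul (R := L) x) = x := by
  have h := congrArg (TensorProduct.rid L B) (Coalgebra.lTensor_counit_comul (R := L) x)
  simp only [TensorProduct.rid_tmul, one_smul] at h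
  refine Eq.trans ?_ h
  induction Coalgebra.comul (R := L) x using TensorProduct.induction_on with
  | zero => simp
  | tmul a b => simp [epsTens, Algebra.smul_def, mul_comm]
  | add a b ha hb => simp only [map_add, ha, hb]

include hD in
theorem derTens_mul (w w' : B ⊗[L] B) :
    derTens D (w * w') = derTens D w * epsTens w' + epsTens w * derTens D w' := by
  induction w using TensorProduct.induction_on with
  | zero => simp
  | tmul a b =>
    induction w' using TensorProduct.induction_on with
    | zero => simp
    | tmul c d =>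
      simp only [derTens, epsTens, Algebra.TensorProduct.tmul_mul_tmul, LinearMap.comp_apply,
        TensorProduct.map_tmul, LinearMap.mul'_apply, LinearMap.id_apply, Algebra.linearMap_apply,
        Algebra.TensorProduct.lift_tmul, AlgHom.id_apply, AlgHom.comp_apply, Algebra.ofId_apply, hD, map_add, map_mul]
      ring
    | add c d hc hd => rw [mul_add, map_add, map_add, map_add, hc, hd]; ring
  | add a b ha hb => rw [add_mul, map_add, map_add, map_add, ha, hb]; ring

include hD in
theorem invDer_mul (a b : B) : invDer D (a * b) = invDer D a * b + a * invDer D b := by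
  have h : ∀ x, invDer D x = derTens D (Coalgebra.comul (R := L) x) := fun x => by
    rw [invDer, LinearMap.convMul_apply]; rfl
  rw [h, h, h, Bialgebra.comul_mul, derTens_mul D hD, epsTens_comul, epsTens_comul]

include hD in
theorem invDer_mem_pow {m : ℕ} {x : B} (hx : x ∈ RingHom.ker (Bialgebra.counitAlgHom L B) ^ (m + 1)) :
    invDer D x ∈ RingHom.ker (Bialgebra.counitAlgHom L B) ^ m := by
  induction m generalizing x with
  | zero => simp
  | succ m ih =>
    rw [pow_succ' _ (m + 1)] at hx
    refine Submodule.mul_induction_on hx (fun a ha b hb => ?_) (fun a b ha hb => by rw [map_add]; exact add_mem ha hb)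
    rw [invDer_mul D hD]
    refine add_mem (Ideal.mul_mem_left _ _ hb) ?_
    rw [pow_succ']
    exact Ideal.mul_mem_mul ha (ih hb)

include hD in
theorem convPow_eq_zero {j i : ℕ} (hji : j < i) {x : B}
    (hx : x ∈ RingHom.ker (Bialgebra.counitAlgHom L B) ^ i) : (toConv D ^ j).ofConv x = 0 := by
  induction j generalizing i x with
  | zero =>
    rw [convPow_zero_apply]
    exact Ideal.pow_le_self (by omega) hx
  | succ j ih =>
    obtain ⟨i, rfl⟩ : ∃ i', i = i' + 1 := ⟨i - 1, by omega⟩
    rw [convPow_succ_apply]
    exact ih (show j < i by omega) (invDer_mem_pow D hD hx)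

include hD in
theorem convPow_self {x : B} (hx : Bialgebra.counitAlgHom L B x = 0) (hDx : D x = 1) (i : ℕ) :
    (toConv D ^ i).ofConv (x ^ i) = (i.factorial : L) := by
  induction i with
  | zero => rw [convPow_zero_apply]; simp
  | succ i ih =>
    have hpow : ∀ m : ℕ, invDer D (x ^ (m + 1)) = ((m + 1 : ℕ) : B) * (x ^ m * invDer D x) := by
      intro m
      induction m with
      | zero => simp
      | succ m hm => rw [pow_succ x (m + 1), invDer_mul D hD, hm]; push_cast; ring
    have hsplit : ((i + 1 : ℕ) : B) * (x ^ i * invDer D x) =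
        ((i + 1 : ℕ) : L) • x ^ i + ((i + 1 : ℕ) : B) * (x ^ i * (invDer D x - 1)) := by
      rw [Algebra.smul_def, map_natCast]; ring
    have hmem : ((i + 1 : ℕ) : B) * (x ^ i * (invDer D x - 1)) ∈
        RingHom.ker (Bialgebra.counitAlgHom L B) ^ (i + 1) := by
      refine Ideal.mul_mem_left _ _ ?_
      rw [pow_succ]
      refine Ideal.mul_mem_mul (Ideal.pow_mem_pow hx i) ?_
      rw [RingHom.mem_ker, map_sub, counit_invDer, hDx, map_one, sub_self]
    rw [convPow_succ_apply, hpow, hsplit, map_add, map_smul, ih,
      convPow_eq_zero D hD (Nat.lt_succ_self i) hmem, add_zero, smul_eq_mul, Nat.factorial_succ, Nat.cast_mul]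

include hD in
theorem der_powConv (f : WithConv (B →ₐ[L] B)) (hf : (Bialgebra.counitAlgHom L B).comp f.ofConv = Bialgebra.counitAlgHom L B)
    (x : B) : D ((f * toConv (AlgHom.id L B)).ofConv x) = D (f.ofConv x) + D x := by
  have h1 : ∀ w : B ⊗[L] B, D (Algebra.TensorProduct.lift f.ofConv (AlgHom.id L B) (fun _ _ => .all _ _) w) =
      D (f.ofConv (epsTens w)) + D (Algebra.TensorProduct.lift ((Algebra.ofId L B).comp (Bialgebra.counitAlgHom L B))
        (AlgHom.id L B) (fun _ _ => .all _ _) w) := by
    intro w
    induction w using TensorProduct.induction_on with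
    | zero => simp
    | tmul a b =>
      simp only [epsTens, Algebra.TensorProduct.lift_tmul, AlgHom.id_apply, AlgHom.comp_apply,
        Algebra.ofId_apply]
      have he := DFunLike.congr_fun hf a
      rw [AlgHom.comp_apply] at he
      rw [hD, he, mul_comm a, ← Algebra.smul_def, map_smul, map_smul, ← Algebra.smul_def, map_smul]
      simp only [smul_eq_mul]
      ring
    | add a b ha hb => simp only [map_add, ha, hb]; abel
  rw [AlgHom.convMul_apply, h1, epsTens_comul]
  congr 2
  have h := DFunLike.congr_fun (congrArg WithConv.ofConv (one_mul (toConv (AlgHom.id L B)))) x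
  rw [AlgHom.convMul_apply] at h
  exact h

end Derivation

variable (L : Type u) [Field L] (B : Type v) [CommRing B] [HopfAlgebra L B] [Module.Finite L B]

/-- A Hopf algebra of dimension `p` over an algebraically closed field has a point of order `p`, or a
derivation at the origin in characteristic `p`. -/
theorem point_or_derivation [IsAlgClosed L] (p : ℕ) [hp : Fact p.Prime] (hB : Module.finrank L B = p) :
    (∃ g : WithConv (B →ₐ[L] L), g ≠ 1) ∨
      ∃ (D : B →ₗ[L] L) (x0 : B), (∀ a b : B, D (a * b) =
        Bialgebra.counitAlgHom L B a * D b + D a * Bialgebra.counitAlgHom L B b) ∧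
        Bialgebra.counitAlgHom L B x0 = 0 ∧ D x0 = 1 ∧ (p : L) = 0 ∧
        ∀ (n : ℕ) (x : B), D ((toConv (AlgHom.id L B) ^ n).ofConv x) = (n : L) * D x := by
  classical
  have hkill := SGA3cLib.pow_finrank_eq_one L B
  rw [hB] at hkill
  refine or_iff_not_imp_left.mpr fun hpt => ?_
  push_neg at hpt
  haveI : IsArtinianRing B := IsArtinianRing.of_finite L B
  haveI : IsNoetherianRing B := IsNoetherianRing.of_finite L B
  set I := RingHom.ker (Bialgebra.counitAlgHom L B) with hI
  have hImax : I.IsMaximal := RingHom.ker_isMaximal_of_surjective _ fun t => ⟨algebraMap L B t, by simp⟩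
  have hnil : ∀ x ∈ I, IsNilpotent x := fun x hx => by
    rw [nilpotent_iff_mem_prime]
    intro Q hQ
    haveI : Q.IsMaximal := IsArtinianRing.isMaximal_of_isPrime Q
    letI : Field (B ⧸ Q) := Ideal.Quotient.field Q
    let φ : B →ₐ[L] L := (AlgEquiv.ofBijective (Algebra.ofId L (B ⧸ Q))
      (IsAlgClosed.algebraMap_bijective_of_isIntegral (k := L) (K := B ⧸ Q))).symm.toAlgHom.comp
        (Ideal.Quotient.mkₐ L Q)
    have h := DFunLike.congr_fun (congrArg WithConv.ofConv (hpt (toConv φ))) x
    have hx' : φ x = 0 := h.trans (by simpa [I] using hx)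
    simpa [φ, Ideal.Quotient.eq_zero_iff_mem] using hx'
  have hne : ¬ I ≤ I ^ 2 := by
    intro hle
    have hIn : IsNilpotent I := (Ideal.FG.isNilpotent_iff_le_nilradical (IsNoetherian.noetherian I)).mpr fun x hx => hnil x hx
    have hbot : I = ⊥ := by
      obtain ⟨N, hN⟩ := hIn
      have h : ∀ m, I ≤ I ^ (m + 1) := by
        intro m
        induction m with
        | zero => simp
        | succ m ih => calc I ≤ I ^ 2 := hle
            _ = I * I := sq I
            _ ≤ I ^ (m + 1) * I := Ideal.mul_mono_left ih
            _ = I ^ (m + 1 + 1) := (pow_succ _ _).symm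
      exact le_bot_iff.mp ((h N).trans (by rw [pow_succ, hN, zero_mul]; exact le_rfl))
    have h1 : Module.finrank L B ≤ 1 := finrank_le_one (1 : B) fun b => ⟨Bialgebra.counitAlgHom L B b, by
      have : b - algebraMap L B (Bialgebra.counitAlgHom L B b) ∈ I := by simp [I]
      rw [hbot, Ideal.mem_bot, sub_eq_zero] at this
      rw [← Algebra.algebraMap_eq_smul_one]; exact this.symm⟩
    have := hp.out.two_le
    omega
  obtain ⟨x0, hx0, hx0'⟩ := SetLike.not_le_iff_exists.mp hne
  obtain ⟨φ, hφx, hφ⟩ := Submodule.exists_dual_map_eq_bot_of_notMem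
    (p := (I ^ 2).restrictScalars L) (x := x0) (by rw [Submodule.restrictScalars_mem]; exact hx0') inferInstance
  have hφ0 : ∀ y ∈ I ^ 2, φ y = 0 := fun y hy => by
    have : φ y ∈ ((I ^ 2).restrictScalars L).map φ := ⟨y, hy, rfl⟩
    rw [hφ] at this; exact this
  let D : B →ₗ[L] L := (φ x0)⁻¹ • (φ ∘ₗ (LinearMap.id -
    Algebra.linearMap L B ∘ₗ (Bialgebra.counitAlgHom L B).toLinearMap))
  have hDap : ∀ y, D y = (φ x0)⁻¹ * φ (y - algebraMap L B (Bialgebra.counitAlgHom L B y)) := fun y => rfl
  have hεD : ∀ y : B, y - algebraMap L B (Bialgebra.counitAlgHom L B y) ∈ I := fun y => by simp [I]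
  have hD : ∀ a b : B, D (a * b) =
      Bialgebra.counitAlgHom L B a * D b + D a * Bialgebra.counitAlgHom L B b := by
    intro a b
    have h := hφ0 _ (by rw [sq]; exact Ideal.mul_mem_mul (hεD a) (hεD b))
    rw [hDap, hDap, hDap, map_mul (Bialgebra.counitAlgHom L B)]
    have e : a * b - algebraMap L B (Bialgebra.counitAlgHom L B a * Bialgebra.counitAlgHom L B b) =
        (a - algebraMap L B (Bialgebra.counitAlgHom L B a)) * (b - algebraMap L B (Bialgebra.counitAlgHom L B b)) +
          Bialgebra.counitAlgHom L B a • (b - algebraMap L B (Bialgebra.counitAlgHom L B b)) +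
          Bialgebra.counitAlgHom L B b • (a - algebraMap L B (Bialgebra.counitAlgHom L B a)) := by
      rw [Algebra.smul_def, Algebra.smul_def, map_mul]; ring
    rw [e, map_add, map_add, h, map_smul, map_smul]
    simp only [smul_eq_mul]
    ring
  have hDx : D x0 = 1 := by
    rw [hDap, show Bialgebra.counitAlgHom L B x0 = 0 from hx0, map_zero, sub_zero, inv_mul_cancel₀ hφx]
  have hpD : ∀ n : ℕ, ∀ x, D ((toConv (AlgHom.id L B) ^ n).ofConv x) = (n : L) * D x := by
    intro n
    induction n with
    | zero =>
      intro x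
      rw [pow_zero, AlgHom.convOne_apply, hDap]
      simp
    | succ n ih =>
      intro x
      rw [pow_succ, der_powConv D hD _ ?_ x, ih]
      · push_cast; ring
      · have h := SGA3cLib.pow_ofConv_comp (Bialgebra.counitAlgHom L B) (toConv (AlgHom.id L B)) n
        rw [ofConv_toConv, AlgHom.comp_id, show toConv (Bialgebra.counitAlgHom L B) = 1 from
          congrArg toConv (AlgHom.ext fun _ => rfl), one_pow] at h
        exact h.trans (AlgHom.ext fun _ => rfl)
  have hp0 : (p : L) = 0 := by
    have h := hpD p x0
    rw [hkill, hDx, mul_one] at h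
    rw [← h, AlgHom.convOne_apply, hDap]
    simp
  exact ⟨D, x0, hD, hx0, hDx, hp0, hpD⟩

/-- In dimension `p` over an algebraically closed field some functional generates the dual algebra. -/
theorem exists_linearIndependent_convPow [IsAlgClosed L] (p : ℕ) [hp : Fact p.Prime] (hB : Module.finrank L B = p) :
    ∃ f : WithConv (B →ₗ[L] L), LinearIndependent L fun j : Fin p => (f ^ (j : ℕ)).ofConv := by
  classical
  have hkill := SGA3cLib.pow_finrank_eq_one L B
  rw [hB] at hkill
  rcases point_or_derivation L B p hB with hpt | ⟨D, x0, hD, hx0, hDx, hp0, -⟩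
  · obtain ⟨g, hg⟩ := hpt
    have hgp : g ^ p = 1 := by
      have h := SGA3cLib.pow_ofConv_comp g.ofConv (toConv (AlgHom.id L B)) p
      rw [hkill, ofConv_toConv, AlgHom.comp_id, toConv_ofConv] at h
      apply WithConv.ext
      rw [← h]
      exact AlgHom.ext fun b => by simp
    have hord : orderOf g = p := orderOf_eq_prime hgp hg
    refine ⟨toConv g.ofConv.toLinearMap, ?_⟩
    have heq : (fun j : Fin p => ((toConv g.ofConv.toLinearMap) ^ (j : ℕ)).ofConv) =
        fun j : Fin p => (g ^ (j : ℕ)).ofConv.toLinearMap :=
      funext fun j => (congrArg WithConv.ofConv (AlgHom.toLinearMap_convPow g j)).symm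
    rw [heq]
    have hinj : Function.Injective fun j : Fin p => ((g ^ (j : ℕ)).ofConv : B →* L) := by
      intro i j h
      apply Fin.ext
      refine pow_injOn_Iio_orderOf (x := g) (by rw [hord]; exact i.2) (by rw [hord]; exact j.2) ?_
      apply WithConv.ext
      exact AlgHom.ext fun b => DFunLike.congr_fun h b
    have h1 := (linearIndependent_monoidHom B L).comp _ hinj
    exact LinearIndependent.of_comp
      ({ toFun := fun (φ : B →ₗ[L] L) (b : B) => φ b
         map_add' := fun _ _ => rfl
         map_smul' := fun _ _ => rfl } : (B →ₗ[L] L) →ₗ[L] (B → L)) h1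
  · haveI : CharP L p := (CharP.charP_iff_prime_eq_zero hp.out).mpr hp0
    refine ⟨toConv D, Fintype.linearIndependent_iff.mpr fun c hc => ?_⟩
    by_contra hne
    push_neg at hne
    obtain ⟨j, hj, hmax⟩ := (Finset.univ.filter fun j : Fin p => c j ≠ 0).exists_max_image id
      (by obtain ⟨i, hi⟩ := hne; exact ⟨i, by simp [hi]⟩)
    simp only [Finset.mem_filter, Finset.mem_univ, true_and, id_eq] at hj hmax
    have h := DFunLike.congr_fun hc (x0 ^ (j : ℕ))
    rw [LinearMap.sum_apply, Finset.sum_eq_single j, LinearMap.smul_apply, convPow_self D hD hx0 hDx,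
      smul_eq_mul, LinearMap.zero_apply, mul_eq_zero, CharP.cast_eq_zero_iff L p, hp.out.dvd_factorial] at h
    · rcases h with h | h
      · exact hj h
      · exact absurd j.2 (by omega)
    · intro i _ hij
      rcases lt_or_gt_of_ne hij with h' | h'
      · rw [LinearMap.smul_apply, convPow_eq_zero D hD (show (i : ℕ) < j from h') (Ideal.pow_mem_pow hx0 _), smul_zero]
      · rw [show c i = 0 from by_contra fun hci => absurd (hmax i hci) (not_le.mpr h'), zero_smul]; rfl
    · simp

end Groth.Agent.OT
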