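import Mathlib
import Groth.Agent.OT.OrderPField

/-!
# Group schemes of prime order are commutative
-/

set_option autoImplicit false

universe u v

open TensorProduct WithConv

namespace Groth.Agent.OT

section Base

variable {R : Type u} [CommRing R] {A : Type v} [CommRing A] [HopfAlgebra R A]

theorem comp_convMul {S T : Type*} [CommRing S] [Algebra R S] [CommRing T] [Algebra R T] (φ : S →ₐ[R] T)
    (f g : WithConv (A →ₗ[R] S)) :
    toConv (φ.toLinearMap ∘ₗ (f * g).ofConv) =
      toConv (φ.toLinearMap ∘ₗ f.ofConv) * toConv (φ.toLinearMap ∘ₗ g.ofConv) :=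
  congrArg toConv (LinearMap.algHom_comp_convMul_distrib φ f g)

theorem comp_convPow {S T : Type*} [CommRing S] [Algebra R S] [CommRing T] [Algebra R T] (φ : S →ₐ[R] T)
    (f : WithConv (A →ₗ[R] S)) (n : ℕ) :
    toConv (φ.toLinearMap ∘ₗ (f ^ n).ofConv) = toConv (φ.toLinearMap ∘ₗ f.ofConv) ^ n := by
  induction n with
  | zero =>
    rw [pow_zero, pow_zero, LinearMap.convOne_def, LinearMap.convOne_def]
    refine congrArg toConv (LinearMap.ext fun x => ?_)
    exact φ.commutes _
  | succ n ih => rw [pow_succ, pow_succ, comp_convMul, ih]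

/-- A family of functionals with commuting convolution products has cocommutative comultiplication. -/
theorem isCocomm_of_forall_functional [Module.Finite R A] [Module.Projective R A]
    (h : ∀ (u v : WithConv (A →ₗ[R] R)) (x : A), (u * v).ofConv x = (v * u).ofConv x) :
    Coalgebra.IsCocomm R A := by
  obtain ⟨n, π, s, -, -, hπs⟩ := Module.Finite.exists_comp_eq_id_of_projective R A
  refine ⟨LinearMap.ext fun x => ?_⟩
  rw [LinearMap.comp_apply]
  have key : ∀ t : A ⊗[R] A, (∀ i j, LinearMap.mul' R R (TensorProduct.map (LinearMap.proj i ∘ₗ s)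
      (LinearMap.proj j ∘ₗ s) t) = 0) → t = 0 := by
    intro t ht
    have h2 : TensorProduct.map s s t = 0 := by
      apply ((Pi.basisFun R (Fin n)).tensorProduct (Pi.basisFun R (Fin n))).repr.injective
      refine Finsupp.ext fun ⟨i, j⟩ => ?_
      rw [map_zero, Finsupp.zero_apply, ← ht i j]
      clear ht
      induction t using TensorProduct.induction_on with
      | zero => simp
      | tmul a b => simp [mul_comm]
      | add a b ha hb => simp only [map_add, Finsupp.add_apply, ha, hb]
    have h3 := congrArg (TensorProduct.map π π) h2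
    rw [map_zero, ← LinearMap.comp_apply, ← TensorProduct.map_comp, hπs, TensorProduct.map_id] at h3
    exact h3
  refine sub_eq_zero.mp (key _ fun i j => ?_)
  rw [map_sub, map_sub, sub_eq_zero]
  have h1 := h (toConv (LinearMap.proj j ∘ₗ s)) (toConv (LinearMap.proj i ∘ₗ s)) x
  rw [LinearMap.convMul_apply, LinearMap.convMul_apply] at h1
  simp only [ofConv_toConv] at h1
  refine Eq.trans ?_ h1
  generalize Coalgebra.comul (R := R) x = t
  induction t using TensorProduct.induction_on with
  | zero => simp
  | tmul a b => simp [mul_comm]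
  | add a b ha hb => simp only [map_add, LinearEquiv.coe_coe] at *; rw [ha, hb]

/-- If the dual algebra is monogenic at every point it is commutative. -/
theorem convMul_comm_of_fibres {n : ℕ} (b : Module.Basis (Fin n) R A)
    (h : ∀ q : Ideal R, q.IsPrime → ∃ (L : Type u) (_ : Field L) (_ : Algebra R L) (f : WithConv (A →ₗ[R] L)),
      RingHom.ker (algebraMap R L) = q ∧ (Matrix.of fun i j : Fin n => (f ^ (j : ℕ)).ofConv (b i)).det ≠ 0)
    (u v : WithConv (A →ₗ[R] R)) (x : A) : (u * v).ofConv x = (v * u).ofConv x := by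
  classical
  let a : WithConv (A →ₗ[R] MvPolynomial (Fin n) R) := toConv (b.constr R MvPolynomial.X)
  let M : Matrix (Fin n) (Fin n) (MvPolynomial (Fin n) R) := Matrix.of fun i j => (a ^ (j : ℕ)).ofConv (b i)
  -- the determinant is primitive
  have hP : ∀ q : Ideal R, q.IsPrime → ∃ m, MvPolynomial.coeff m (M.det ^ 2) ∉ q := by
    intro q hq
    obtain ⟨L, _, _, f, hker, hdet⟩ := h q hq
    by_contra hc
    push_neg at hc
    let φ : MvPolynomial (Fin n) R →ₐ[R] L := MvPolynomial.aeval fun i => f.ofConv (b i)
    have hφa : toConv (φ.toLinearMap ∘ₗ a.ofConv) = f := by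
      refine congrArg toConv (b.ext fun i => ?_)
      simp [a, φ]
    have hφM : φ M.det = (Matrix.of fun i j : Fin n => (f ^ (j : ℕ)).ofConv (b i)).det := by
      rw [AlgHom.map_det]
      refine congrArg Matrix.det (Matrix.ext fun i j => ?_)
      show φ ((a ^ (j : ℕ)).ofConv (b i)) = (f ^ (j : ℕ)).ofConv (b i)
      rw [← hφa, ← comp_convPow]
      rfl
    have h0 : φ (M.det ^ 2) = 0 := by
      rw [show φ (M.det ^ 2) = MvPolynomial.eval (fun i => f.ofConv (b i))
        (MvPolynomial.map (algebraMap R L) (M.det ^ 2)) from by rw [MvPolynomial.eval_map]; rfl]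
      have : MvPolynomial.map (algebraMap R L) (M.det ^ 2) = 0 := MvPolynomial.ext _ _ fun m => by
        rw [MvPolynomial.coeff_map, MvPolynomial.coeff_zero, ← RingHom.mem_ker, hker]; exact hc m
      rw [this, map_zero]
    rw [map_pow, hφM] at h0
    exact pow_ne_zero 2 hdet h0
  -- after multiplication by the determinant every functional is a combination of powers
  have hspan : ∀ w : WithConv (A →ₗ[R] MvPolynomial (Fin n) R),
      M.det • w = ∑ j : Fin n, (M.adjugate.mulVec fun i => w.ofConv (b i)) j • a ^ (j : ℕ) := by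
    intro w
    set y := M.adjugate.mulVec fun i => w.ofConv (b i) with hy
    have hMy : M.mulVec y = M.det • fun i => w.ofConv (b i) := by
      rw [hy, Matrix.mulVec_mulVec, Matrix.mul_adjugate, Matrix.smul_mulVec, Matrix.one_mulVec]
    apply WithConv.ext
    refine b.ext fun i => ?_
    rw [show (∑ j : Fin n, y j • a ^ (j : ℕ)).ofConv = ∑ j : Fin n, y j • (a ^ (j : ℕ)).ofConv from
      map_sum (WithConv.addEquiv (A := A →ₗ[R] MvPolynomial (Fin n) R)).toAddMonoidHom _ _]
    rw [LinearMap.sum_apply]
    refine (congrFun hMy i).symm.trans ?_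
    simp only [Matrix.mulVec, dotProduct, LinearMap.smul_apply, smul_eq_mul]
    exact Finset.sum_congr rfl fun j _ => mul_comm _ _
  have hcomm : ∀ w w' : WithConv (A →ₗ[R] MvPolynomial (Fin n) R),
      (M.det * M.det) • (w * w') = (M.det * M.det) • (w' * w) := by
    intro w w'
    have hc : Commute (M.det • w) (M.det • w') := by
      rw [hspan w, hspan w']
      exact Commute.sum_left _ _ _ fun i _ => Commute.sum_right _ _ _ fun j _ =>
        (((Commute.refl a).pow_pow _ _).smul_left _).smul_right _
    have h' := hc.eq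
    simp only [smul_mul_assoc, mul_smul_comm, smul_smul] at h'
    exact h'
  let ι : R →ₐ[R] MvPolynomial (Fin n) R := Algebra.ofId R _
  have hz : (M.det * M.det) * MvPolynomial.C ((u * v).ofConv x - (v * u).ofConv x) = 0 := by
    rw [map_sub, mul_sub, sub_eq_zero]
    have h' := congrArg (fun w : WithConv (A →ₗ[R] MvPolynomial (Fin n) R) => w.ofConv x)
      (hcomm (toConv (ι.toLinearMap ∘ₗ u.ofConv)) (toConv (ι.toLinearMap ∘ₗ v.ofConv)))
    rw [← comp_convMul, ← comp_convMul] at h'
    exact h'
  by_contra hne
  have hann : Submodule.colon (⊥ : Ideal R) {(u * v).ofConv x - (v * u).ofConv x} ≠ ⊤ := by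
    intro htop
    have h1 : (1 : R) ∈ Submodule.colon (⊥ : Ideal R) {(u * v).ofConv x - (v * u).ofConv x} := htop ▸ Submodule.mem_top
    rw [Submodule.mem_colon_singleton, one_smul, Ideal.mem_bot, sub_eq_zero] at h1
    exact hne h1
  obtain ⟨q, hq, hle⟩ := Ideal.exists_le_maximal _ hann
  obtain ⟨m, hm⟩ := hP q hq.isPrime
  apply hm (hle _)
  rw [Submodule.mem_colon_singleton, smul_eq_mul, Ideal.mem_bot]
  have := congrArg (MvPolynomial.coeff m) hz
  rw [MvPolynomial.coeff_zero, mul_comm, MvPolynomial.coeff_C_mul, ← sq] at this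
  rw [mul_comm]
  exact this

end Base

section BaseChange

variable {R : Type u} [CommRing R] {A : Type v} [CommRing A] [HopfAlgebra R A]
  {S : Type u} [CommRing S] [Algebra R S]

/-- restriction of functionals along `A → S ⊗ A` -/
noncomputable def resF {T : Type u} [CommRing T] [Algebra R T] [Algebra S T] [IsScalarTower R S T]
    (f : WithConv (S ⊗[R] A →ₗ[S] T)) : WithConv (A →ₗ[R] T) :=
  toConv ((f.ofConv.restrictScalars R) ∘ₗ (Algebra.TensorProduct.includeRight : A →ₐ[R] S ⊗[R] A).toLinearMap)

theorem resF_apply {T : Type u} [CommRing T] [Algebra R T] [Algebra S T] [IsScalarTower R S T]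
    (f : WithConv (S ⊗[R] A →ₗ[S] T)) (a : A) : (resF f).ofConv a = f.ofConv (1 ⊗ₜ a) := rfl

theorem resF_mul {T : Type u} [CommRing T] [Algebra R T] [Algebra S T] [IsScalarTower R S T]
    (f g : WithConv (S ⊗[R] A →ₗ[S] T)) : resF (f * g) = resF f * resF g := by
  refine WithConv.ext (LinearMap.ext fun a => ?_)
  rw [resF_apply, LinearMap.convMul_apply, LinearMap.convMul_apply, TensorProduct.comul_tmul]
  simp only [Bialgebra.comul_one, Algebra.TensorProduct.one_def]
  induction Coalgebra.comul (R := R) a using TensorProduct.induction_on with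
  | zero => simp
  | tmul x y => simp [resF]
  | add x y hx hy => simp only [TensorProduct.tmul_add, map_add, hx, hy]

theorem resF_one {T : Type u} [CommRing T] [Algebra R T] [Algebra S T] [IsScalarTower R S T] :
    resF (1 : WithConv (S ⊗[R] A →ₗ[S] T)) = 1 := by
  refine WithConv.ext (LinearMap.ext fun a => ?_)
  rw [resF_apply]
  simp [LinearMap.convOne_def, Algebra.algebraMap_eq_smul_one]

theorem resF_pow {T : Type u} [CommRing T] [Algebra R T] [Algebra S T] [IsScalarTower R S T]
    (f : WithConv (S ⊗[R] A →ₗ[S] T)) (n : ℕ) : resF (f ^ n) = resF f ^ n := by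
  induction n with
  | zero => simpa using resF_one
  | succ n ih => rw [pow_succ, pow_succ, resF_mul, ih]

/-- extension of functionals -/
noncomputable def extF (u : WithConv (A →ₗ[R] R)) : WithConv (S ⊗[R] A →ₗ[S] S) :=
  toConv ((AlgebraTensorModule.rid R S S).toLinearMap ∘ₗ u.ofConv.baseChange S)

theorem resF_extF (u : WithConv (A →ₗ[R] R)) :
    resF (extF (S := S) u) = toConv ((Algebra.ofId R S).toLinearMap ∘ₗ u.ofConv) := by
  refine WithConv.ext (LinearMap.ext fun a => ?_)
  simp [resF_apply, extF, Algebra.ofId_apply, Algebra.algebraMap_eq_smul_one]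

end BaseChange

variable {R : Type u} [CommRing R] {A : Type u} [CommRing A] [HopfAlgebra R A]
  [Module.Finite R A] [Module.Projective R A]

theorem finrank_fibre {p : ℕ} (hrk : ∀ q : PrimeSpectrum R, Module.rankAtStalk A q = p)
    (L : Type u) [Field L] [Algebra R L] : Module.finrank L (L ⊗[R] A) = p := by
  have h1 := Module.rankAtStalk_baseChange (R := R) (M := A) (⊥ : PrimeSpectrum L)
  rw [hrk, Module.rankAtStalk_eq_finrank_of_free] at h1
  exact h1

/-- A group scheme of prime order is commutative. -/
theorem isCocomm_of_rank_prime (p : ℕ) [Fact p.Prime] (hrk : ∀ q : PrimeSpectrum R, Module.rankAtStalk A q = p) :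
    Coalgebra.IsCocomm R A := by
  refine isCocomm_of_forall_functional fun u v x => ?_
  refine Module.eq_of_localization_maximal (R := R) (fun m hm => Localization.AtPrime m)
    (fun m hm => Algebra.linearMap R (Localization.AtPrime m)) _ _ fun m hm => ?_
  let S := Localization.AtPrime m
  haveI : Module.Free S (S ⊗[R] A) := Module.free_of_flat_of_isLocalRing
  have hn : Module.finrank S (S ⊗[R] A) = p := by
    have h1 := Module.rankAtStalk_baseChange (R := R) (M := A) (IsLocalRing.closedPoint S)
    rw [hrk, Module.rankAtStalk_eq_finrank_of_free] at h1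
    exact h1
  have b : Module.Basis (Fin p) S (S ⊗[R] A) := (Module.finBasis S (S ⊗[R] A)).reindex (finCongr hn)
  have hfib : ∀ q : Ideal S, q.IsPrime → ∃ (L : Type u) (_ : Field L) (_ : Algebra S L)
      (f : WithConv (S ⊗[R] A →ₗ[S] L)), RingHom.ker (algebraMap S L) = q ∧
        (Matrix.of fun i j : Fin p => (f ^ (j : ℕ)).ofConv (b i)).det ≠ 0 := by
    intro q hq
    let k := FractionRing (S ⧸ q)
    let L := AlgebraicClosure k
    letI : Algebra S L := ((algebraMap k L).comp ((algebraMap (S ⧸ q) k).comp (Ideal.Quotient.mk q))).toAlgebra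
    have hker : RingHom.ker (algebraMap S L) = q := by
      rw [RingHom.algebraMap_toAlgebra, RingHom.ker_comp_of_injective _ (RingHom.injective _),
        RingHom.ker_comp_of_injective _ (IsFractionRing.injective (S ⧸ q) k), Ideal.mk_ker]
    let bL : Module.Basis (Fin p) L (L ⊗[S] (S ⊗[R] A)) := b.baseChange L
    have hB : Module.finrank L (L ⊗[S] (S ⊗[R] A)) = p := by
      rw [Module.finrank_eq_card_basis bL, Fintype.card_fin]
    haveI : Module.Finite L (L ⊗[S] (S ⊗[R] A)) := Module.Finite.of_basis bL
    obtain ⟨F, hF⟩ := exists_linearIndependent_convPow L (L ⊗[S] (S ⊗[R] A)) p hB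
    refine ⟨L, inferInstance, inferInstance, resF F, hker, ?_⟩
    intro hdet
    obtain ⟨c, hc0, hc⟩ := Matrix.exists_mulVec_eq_zero_iff.mpr hdet
    apply hc0
    funext j
    refine Fintype.linearIndependent_iff.mp hF c ?_ j
    refine bL.ext fun i => ?_
    rw [LinearMap.sum_apply, LinearMap.zero_apply]
    refine Eq.trans ?_ (congrFun hc i)
    simp only [Matrix.mulVec, dotProduct, Matrix.of_apply, LinearMap.smul_apply, smul_eq_mul, ← resF_pow,
      resF_apply, bL, Module.Basis.baseChange_apply]
    exact Finset.sum_congr rfl fun j _ => mul_comm _ _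
  have h := convMul_comm_of_fibres (R := S) (A := S ⊗[R] A) b hfib (extF u) (extF v) (1 ⊗ₜ x)
  rw [← resF_apply, ← resF_apply, resF_mul, resF_mul, resF_extF, resF_extF, ← comp_convMul, ← comp_convMul] at h
  exact h

end Groth.Agent.OT
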