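import Mathlib
import Groth.Prelude.Def_W4c5ffgsreadingcourseOT

/-!
# The action of `(ZMod p)ˣ` on a Hopf algebra killed by `p`
-/

universe u

open WithConv

namespace Groth.Agent.OT

variable (R : Type u) [CommRing R] (A : Type u) [CommRing A] [HopfAlgebra R A]

theorem comp_powConv {B : Type u} [CommRing B] [Algebra R B] (h : A →ₐ[R] B) (n : ℕ) :
    h.comp (SGA3b.powConv R A n) = ofConv ((toConv h) ^ n) := by
  induction n with
  | zero =>
    refine AlgHom.ext fun a => ?_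
    change h ((1 : WithConv (A →ₐ[R] A)) a) = (1 : WithConv (A →ₐ[R] B)) a
    rw [AlgHom.convOne_apply, AlgHom.convOne_apply, AlgHom.commutes]
  | succ n ih =>
    rw [pow_succ, SGA3b.powConv, pow_succ, AlgHom.comp_convMul_distrib]
    rw [show ofConv (toConv (AlgHom.id R A) ^ n) = SGA3b.powConv R A n from rfl, ih]
    rfl

theorem powConv_powConv (m n : ℕ) (a : A) :
    SGA3b.powConv R A m (SGA3b.powConv R A n a) = SGA3b.powConv R A (m * n) a := by
  rw [← AlgHom.comp_apply, comp_powConv R A (SGA3b.powConv R A m) n]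
  conv_rhs => rw [SGA3b.powConv, pow_mul]
  rfl

theorem counit_powConv (n : ℕ) (a : A) :
    Bialgebra.counitAlgHom R A (SGA3b.powConv R A n a) = Bialgebra.counitAlgHom R A a := by
  rw [← AlgHom.comp_apply, comp_powConv R A (Bialgebra.counitAlgHom R A) n]
  have h : toConv (Bialgebra.counitAlgHom R A) = (1 : WithConv (A →ₐ[R] R)) :=
    congrArg toConv (AlgHom.ext fun _ => rfl)
  rw [h, one_pow, ← h]

variable {p : ℕ} [Fact p.Prime] (hp : (toConv (AlgHom.id R A)) ^ p = 1)

include hp in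
theorem powConv_mod (n : ℕ) : SGA3b.powConv R A n = SGA3b.powConv R A (n % p) := by
  conv_lhs => rw [← Nat.mod_add_div n p]
  rw [SGA3b.powConv, pow_add, pow_mul, hp, one_pow, mul_one]
  rfl

include hp in
theorem powConv_mul (m n : (ZMod p)ˣ) (a : A) :
    SGA3b.powConv R A (m : ZMod p).val (SGA3b.powConv R A (n : ZMod p).val a) =
      SGA3b.powConv R A ((m * n : (ZMod p)ˣ) : ZMod p).val a := by
  rw [powConv_powConv, powConv_mod R A hp, Units.val_mul, ZMod.val_mul]

omit hp in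
theorem powConv_val_one (a : A) : SGA3b.powConv R A ((1 : (ZMod p)ˣ) : ZMod p).val a = a := by
  rw [Units.val_one, ZMod.val_one, SGA3b.powConv, pow_one]
  rfl

omit hp in
theorem powConv_one (a : A) : SGA3b.powConv R A 1 a = a := by
  rw [SGA3b.powConv, pow_one]
  rfl

variable {u : R} (hu : u * ((p - 1 : ℕ) : R) = 1) {χ : (ZMod p)ˣ →* Rˣ}
  (hχ : ∀ m : (ZMod p)ˣ, m ≠ 1 → IsUnit ((χ m : R) - 1))

include hχ in
theorem sum_chi_pow_eq_zero {i j : ℕ} (hi : i < p - 1) (hj : j < p - 1) (hij : i ≠ j) :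
    ∑ m : (ZMod p)ˣ, ((χ m⁻¹ : Rˣ) : R) ^ i * ((χ m : Rˣ) : R) ^ j = 0 := by
  obtain ⟨g, hg⟩ := IsCyclic.exists_generator (α := (ZMod p)ˣ)
  have hord : orderOf g = p - 1 := by
    rw [orderOf_eq_card_of_forall_mem_zpowers hg, Nat.card_eq_fintype_card, ZMod.card_units]
  let F : (ZMod p)ˣ →* Rˣ :=
    { toFun := fun m => χ ((m ^ i)⁻¹ * m ^ j)
      map_one' := by simp
      map_mul' := fun a b => by rw [← map_mul, mul_pow, mul_pow, mul_inv]; congr 1; ac_rfl }
  have hF : ∀ m : (ZMod p)ˣ, ((χ m⁻¹ : Rˣ) : R) ^ i * ((χ m : Rˣ) : R) ^ j = (F m : R) := fun m => by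
    simp [F, map_mul, map_pow, map_inv, inv_pow]
  have hne : (g ^ i)⁻¹ * g ^ j ≠ 1 := fun h => hij (by
    have h' : g ^ i = g ^ j := (inv_mul_eq_one.1 h)
    rw [pow_inj_mod, hord, Nat.mod_eq_of_lt hi, Nat.mod_eq_of_lt hj] at h'
    exact h')
  simp only [hF]
  have h2 : ((F g : R) - 1) * ∑ m, (F m : R) = 0 := by
    rw [sub_mul, one_mul, Finset.mul_sum, sub_eq_zero]
    exact Fintype.sum_equiv (Equiv.mulLeft g) _ _ fun m => by simp
  exact (hχ _ hne).mul_right_eq_zero.1 h2

include hu in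
theorem proj_eigen_self {j : ℕ} {a : A} (ha : a ∈ OortTate.eigenAug R A p χ j) :
    OortTate.proj R A p u χ j a = a := by
  have h : ∀ m : (ZMod p)ˣ, SGA3b.powConv R A (m : ZMod p).val a = ((χ m : Rˣ) : R) ^ j • a := fun m => by
    simp only [OortTate.eigenAug, Submodule.mem_inf, Submodule.mem_iInf, Module.End.mem_eigenspace_iff] at ha
    exact ha.2 m
  simp only [OortTate.proj, LinearMap.smul_apply, LinearMap.coe_sum, Finset.sum_apply, AlgHom.toLinearMap_apply, h,
    smul_smul]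
  simp [← mul_pow, ← Units.val_mul, ← map_mul, Nat.totient_prime (Fact.out : p.Prime), ← Nat.cast_smul_eq_nsmul R, smul_smul, hu]

include hχ in
theorem proj_eigen_ne {i j : ℕ} (hi : i < p - 1) (hj : j < p - 1) (hij : i ≠ j) {a : A}
    (ha : a ∈ OortTate.eigenAug R A p χ j) : OortTate.proj R A p u χ i a = 0 := by
  have h : ∀ m : (ZMod p)ˣ, SGA3b.powConv R A (m : ZMod p).val a = ((χ m : Rˣ) : R) ^ j • a := fun m => by
    simp only [OortTate.eigenAug, Submodule.mem_inf, Submodule.mem_iInf, Module.End.mem_eigenspace_iff] at ha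
    exact ha.2 m
  simp only [OortTate.proj, LinearMap.smul_apply, LinearMap.coe_sum, Finset.sum_apply, AlgHom.toLinearMap_apply, h,
    smul_smul]
  rw [← Finset.sum_smul, sum_chi_pow_eq_zero R hχ hi hj hij, zero_smul, smul_zero]

include hp in
theorem proj_mem_eigen (i : ℕ) {a : A} (ha : Bialgebra.counitAlgHom R A a = 0) :
    OortTate.proj R A p u χ i a ∈ OortTate.eigenAug R A p χ i := by
  simp only [OortTate.eigenAug, Submodule.mem_inf, Submodule.mem_iInf, Module.End.mem_eigenspace_iff,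
    LinearMap.mem_ker, AlgHom.toLinearMap_apply, OortTate.proj, LinearMap.smul_apply, LinearMap.coe_sum,
    Finset.sum_apply, map_smul, map_sum]
  refine ⟨by simp only [counit_powConv, ha, smul_zero, Finset.sum_const_zero], fun n => ?_⟩
  rw [smul_comm _ u, Finset.smul_sum (r := ((χ n : Rˣ) : R) ^ i)]
  congr 1
  refine Fintype.sum_equiv (Equiv.mulLeft n) _ _ fun m => ?_
  rw [powConv_mul R A hp, Equiv.coe_mulLeft, smul_smul, ← mul_pow, ← Units.val_mul, ← map_mul]
  rw [mul_inv_rev, ← mul_assoc, mul_comm n m⁻¹, mul_assoc, mul_inv_cancel, mul_one]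

include hu hχ in
theorem sum_proj (a : A) : ∑ i : Fin (p - 1), OortTate.proj R A p u χ (i : ℕ) a = a := by
  simp only [OortTate.proj, LinearMap.smul_apply, LinearMap.coe_sum, Finset.sum_apply,
    AlgHom.toLinearMap_apply, ← Finset.smul_sum]
  rw [Finset.sum_comm]
  simp only [← Finset.sum_smul]
  rw [Finset.sum_eq_single (1 : (ZMod p)ˣ)]
  · simp [powConv_one R A, ZMod.val_one, Fin.sum_univ_eq_sum_range (fun i : ℕ => (1 : R)),
      ← Nat.cast_smul_eq_nsmul R, smul_smul, hu]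
  · intro m _ hm
    have hF : ∑ i : Fin (p - 1), ((χ m⁻¹ : Rˣ) : R) ^ (i : ℕ) = 0 := by
      have hu1 := hχ m⁻¹ (by simpa using hm)
      have hpow : ((χ m⁻¹ : Rˣ) : R) ^ (p - 1) = 1 := by
        rw [← Units.val_pow_eq_pow_val, ← map_pow, ← ZMod.card_units p, pow_card_eq_one, map_one, Units.val_one]
      have h3 := geom_sum_mul ((χ m⁻¹ : Rˣ) : R) (p - 1)
      rw [hpow, sub_self] at h3
      rw [Fin.sum_univ_eq_sum_range (fun i => ((χ m⁻¹ : Rˣ) : R) ^ i)]
      exact hu1.mul_left_eq_zero.1 h3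
    rw [hF, zero_smul]
  · intro h; exact absurd (Finset.mem_univ _) h

end Groth.Agent.OT
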