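import Mathlib
import Groth.Agent.OT.Generic
import Groth.Agent.OT.PowEigen

/-!
# Deligne's lemma: a finite free commutative group scheme is killed by its rank
-/

set_option autoImplicit false

universe u v

open TensorProduct WithConv

namespace Groth.Agent.OT

variable {S : Type u} [CommRing S] {A : Type v} [CommRing A] [HopfAlgebra S A] [Coalgebra.IsCocomm S A]

noncomputable local instance convBaseAlgebra : Algebra (WithConv (A →ₗ[S] S)) (WithConv (A →ₗ[S] A)) :=
  RingHom.toAlgebra
    { toFun := fun c => toConv ((Algebra.ofId S A).toLinearMap ∘ₗ c.ofConv)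
      map_one' := by
        have h := comp_convPow (Algebra.ofId S A) (1 : WithConv (A →ₗ[S] S)) 0
        rw [pow_zero, pow_zero] at h
        exact h
      map_mul' := fun f g => comp_convMul (Algebra.ofId S A) f g
      map_zero' := by rw [WithConv.ofConv_zero, LinearMap.comp_zero, WithConv.toConv_zero]
      map_add' := fun f g => by rw [WithConv.ofConv_add, LinearMap.comp_add, WithConv.toConv_add] }

theorem base_smul_apply (c : WithConv (A →ₗ[S] S)) (g : WithConv (A →ₗ[S] A)) :
    c • g = toConv ((Algebra.ofId S A).toLinearMap ∘ₗ c.ofConv) * g := rfl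

theorem base_smul_const (c : WithConv (A →ₗ[S] S)) (y : A) :
    c • toConv (LinearMap.toSpanSingleton S A y ∘ₗ Coalgebra.counit) =
      toConv (LinearMap.toSpanSingleton S A y ∘ₗ c.ofConv) := by
  rw [base_smul_apply]
  refine WithConv.ext (LinearMap.ext fun x => ?_)
  rw [LinearMap.convMul_apply]
  have h := congrArg (fun t => c.ofConv (TensorProduct.rid S A t) • y) (Coalgebra.lTensor_counit_comul (R := S) x)
  simp only [TensorProduct.rid_tmul, one_smul] at h
  simp only [ofConv_toConv, LinearMap.comp_apply, LinearMap.toSpanSingleton_apply] at *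
  refine Eq.trans ?_ h
  induction Coalgebra.comul (R := S) x using TensorProduct.induction_on with
  | zero => simp
  | tmul a b =>
    simp only [TensorProduct.map_tmul, LinearMap.mul'_apply, LinearMap.comp_apply, AlgHom.toLinearMap_apply,
      Algebra.ofId_apply, LinearMap.toSpanSingleton_apply, LinearMap.lTensor_tmul,
      TensorProduct.rid_tmul, map_smul, smul_eq_mul, mul_smul]
    rw [← Algebra.smul_def, smul_comm]
  | add a b ha hb => simp only [map_add, add_smul, ha, hb]

variable {n : ℕ} (b : Module.Basis (Fin n) S A)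

/-- Endomorphisms as coordinate functionals. -/
noncomputable def convEquiv : (Fin n → WithConv (A →ₗ[S] S)) ≃ₗ[WithConv (A →ₗ[S] S)] WithConv (A →ₗ[S] A) where
  toFun U := ∑ i, U i • toConv (LinearMap.toSpanSingleton S A (b i) ∘ₗ Coalgebra.counit)
  invFun g i := toConv (b.coord i ∘ₗ g.ofConv)
  map_add' U V := by simp only [Algebra.smul_def, Pi.add_apply, map_add, add_mul, Finset.sum_add_distrib]
  map_smul' c U := by
    rw [RingHom.id_apply, Algebra.smul_def c, Finset.mul_sum]
    refine Finset.sum_congr rfl fun i _ => ?_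
    rw [Algebra.smul_def, Algebra.smul_def, ← mul_assoc, ← map_mul]
    rfl
  left_inv U := by
    funext j
    refine WithConv.ext (LinearMap.ext fun x => ?_)
    simp only [ofConv_toConv, LinearMap.comp_apply, base_smul_const]
    rw [show (∑ i, toConv (LinearMap.toSpanSingleton S A (b i) ∘ₗ (U i).ofConv)).ofConv =
      ∑ i, LinearMap.toSpanSingleton S A (b i) ∘ₗ (U i).ofConv from
      map_sum (WithConv.addEquiv (A := A →ₗ[S] A)).toAddMonoidHom _ _]
    rw [LinearMap.sum_apply, map_sum]
    simp [Finsupp.single_apply]
  right_inv g := by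
    refine WithConv.ext (LinearMap.ext fun x => ?_)
    simp only [base_smul_const]
    rw [show (∑ i, toConv (LinearMap.toSpanSingleton S A (b i) ∘ₗ (b.coord i ∘ₗ g.ofConv))).ofConv =
      ∑ i, LinearMap.toSpanSingleton S A (b i) ∘ₗ (b.coord i ∘ₗ g.ofConv) from
      map_sum (WithConv.addEquiv (A := A →ₗ[S] A)).toAddMonoidHom _ _]
    rw [LinearMap.sum_apply]
    exact b.sum_repr (g.ofConv x)

/-- The translation by a point. -/
noncomputable def translate (u : WithConv (A →ₐ[S] S)) : A →ₐ[S] A :=
  (toConv (AlgHom.id S A) * toConv ((Algebra.ofId S A).comp u.ofConv)).ofConv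

theorem translate_comp (u v : WithConv (A →ₐ[S] S)) :
    (translate u).comp (translate v) = translate (u * v) := by
  conv_lhs => arg 2; unfold translate
  rw [AlgHom.comp_convMul_distrib, ofConv_toConv, AlgHom.comp_id]
  have h1 : (translate u).comp ((toConv ((Algebra.ofId S A).comp v.ofConv)).ofConv) =
      (Algebra.ofId S A).comp v.ofConv :=
    AlgHom.ext fun x => (translate u).commutes _
  rw [h1]
  unfold translate
  rw [toConv_ofConv, mul_assoc]
  congr 2
  exact WithConv.ext (AlgHom.comp_convMul_distrib (Algebra.ofId S A) u v).symm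

theorem translate_one : translate (1 : WithConv (A →ₐ[S] S)) = AlgHom.id S A := by
  unfold translate
  have h : toConv ((Algebra.ofId S A).comp (1 : WithConv (A →ₐ[S] S)).ofConv) = (1 : WithConv (A →ₐ[S] A)) :=
    WithConv.ext (AlgHom.ext fun x => by simp [Algebra.ofId_apply])
  rw [h, mul_one]

include b in
/-- A point of a finite free commutative group scheme is killed by the rank. -/
theorem point_pow_rank_eq_one (u : WithConv (A →ₐ[S] S)) : u ^ n = 1 := by
  let T := translate u
  -- `T` is bijective
  let v : WithConv (A →ₐ[S] S) := toConv (u.ofConv.comp (HopfAlgebra.antipodeAlgHom S A))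
  have hvu : v * u = 1 := by
    refine WithConv.ext (AlgHom.ext fun x => ?_)
    rw [AlgHom.convMul_apply]
    have h := congrArg u.ofConv (HopfAlgebra.mul_antipode_rTensor_comul_apply (R := S) x)
    rw [AlgHom.commutes] at h
    refine Eq.trans ?_ (h.trans (AlgHom.convOne_apply x).symm)
    induction Coalgebra.comul (R := S) x using TensorProduct.induction_on with
    | zero => simp
    | tmul a c => simp [v]
    | add a c ha hc => simp only [map_add, ha, hc]
  have huv : u * v = 1 := by rw [mul_comm]; exact hvu
  let Te : A ≃ₐ[S] A := AlgEquiv.ofAlgHom T (translate v) (by rw [translate_comp, huv, translate_one])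
    (by rw [translate_comp, hvu, translate_one])
  -- postcomposition
  let τ : WithConv (A →ₗ[S] A) ≃ₐ[WithConv (A →ₗ[S] S)] WithConv (A →ₗ[S] A) :=
    { toFun := fun g => toConv (Te.toAlgHom.toLinearMap ∘ₗ g.ofConv)
      invFun := fun g => toConv (Te.symm.toAlgHom.toLinearMap ∘ₗ g.ofConv)
      left_inv := fun g => WithConv.ext (LinearMap.ext fun x => Te.symm_apply_apply _)
      right_inv := fun g => WithConv.ext (LinearMap.ext fun x => Te.apply_symm_apply _)
      map_mul' := fun f g => comp_convMul Te.toAlgHom f g
      map_add' := fun f g => by rw [WithConv.ofConv_add, LinearMap.comp_add, WithConv.toConv_add]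
      commutes' := fun c => WithConv.ext (LinearMap.ext fun x => Te.commutes _) }
  let g₀ : WithConv (A →ₗ[S] A) := toConv LinearMap.id
  have hτ : τ g₀ = g₀ * algebraMap (WithConv (A →ₗ[S] S)) (WithConv (A →ₗ[S] A)) (toConv u.ofConv.toLinearMap) :=
    AlgHom.toLinearMap_convMul (toConv (AlgHom.id S A)) (toConv ((Algebra.ofId S A).comp u.ofConv))
  -- the norm
  let bas : Module.Basis (Fin n) (WithConv (A →ₗ[S] S)) (WithConv (A →ₗ[S] A)) :=
    Module.Basis.ofEquivFun (convEquiv b).symm
  have hN : Algebra.norm (WithConv (A →ₗ[S] S)) (τ g₀) = Algebra.norm (WithConv (A →ₗ[S] S)) g₀ :=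
    (Algebra.norm_eq_of_algEquiv τ g₀)
  rw [hτ, map_mul, Algebra.norm_algebraMap_of_basis bas, Fintype.card_fin] at hN
  have hg : IsUnit g₀ := by
    refine .of_mul_eq_one (toConv (HopfAlgebra.antipode S : A →ₗ[S] A)) ?_
    exact LinearMap.id_mul_antipode
  have hu := (hg.map (Algebra.norm (WithConv (A →ₗ[S] S)))).mul_left_cancel (hN.trans (mul_one _).symm)
  apply WithConv.ext
  apply AlgHom.toLinearMap_injective
  apply WithConv.toConv_injective
  rw [AlgHom.toLinearMap_convPow, AlgHom.toLinearMap_convOne]
  exact hu

end Groth.Agent.OT
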