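import Mathlib
import Groth.Agent.OT.OrderP
import Groth.Agent.OT.PowEigen

/-!
# The eigenspaces of the augmentation ideal of a group of order `p` are invertible
-/

set_option autoImplicit false

universe u

open TensorProduct WithConv

namespace Groth.Agent.OT

variable {R : Type u} [CommRing R] (A : Type u) [CommRing A] [HopfAlgebra R A] {p : ℕ} [Fact p.Prime]
  (u : R) (χ : (ZMod p)ˣ →* Rˣ)

/-- The projection of `A` onto the `i`-th eigenspace. -/
noncomputable def eproj (i : ℕ) : A →ₗ[R] A :=
  OortTate.proj R A p u χ i ∘ₗ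
    (LinearMap.id - Algebra.linearMap R A ∘ₗ (Bialgebra.counitAlgHom R A).toLinearMap)

theorem sub_counit_mem (a : A) :
    Bialgebra.counitAlgHom R A (a - algebraMap R A (Bialgebra.counitAlgHom R A a)) = 0 := by simp

variable {A} {u} {χ}

theorem eproj_apply (i : ℕ) (a : A) :
    eproj A u χ i a = OortTate.proj R A p u χ i (a - algebraMap R A (Bialgebra.counitAlgHom R A a)) := rfl

theorem eproj_eigen_self (hu : u * ((p - 1 : ℕ) : R) = 1) {i : ℕ} {a : A}
    (ha : a ∈ OortTate.eigenAug R A p χ i) : eproj A u χ i a = a := by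
  rw [eproj_apply, show Bialgebra.counitAlgHom R A a = 0 from ha.1, map_zero, sub_zero, proj_eigen_self R A hu ha]

variable (hp : (toConv (AlgHom.id R A)) ^ p = 1)

include hp in
theorem eproj_mem (i : ℕ) (a : A) : eproj A u χ i a ∈ OortTate.eigenAug R A p χ i :=
  proj_mem_eigen R A hp i (sub_counit_mem A a)

include hp in
theorem eigen_finite (hu : u * ((p - 1 : ℕ) : R) = 1) [Module.Finite R A] (i : ℕ) :
    Module.Finite R (OortTate.eigenAug R A p χ i) :=
  Module.Finite.of_surjective ((eproj A u χ i).codRestrict _ (eproj_mem hp i))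
    fun z => ⟨z, Subtype.ext (eproj_eigen_self hu z.2)⟩

include hp in
theorem eigen_projective (hu : u * ((p - 1 : ℕ) : R) = 1) [Module.Projective R A] (i : ℕ) :
    Module.Projective R (OortTate.eigenAug R A p χ i) :=
  Module.Projective.of_split (OortTate.eigenAug R A p χ i).subtype
    ((eproj A u χ i).codRestrict _ (eproj_mem hp i))
    (LinearMap.ext fun z => Subtype.ext (eproj_eigen_self hu z.2))

/-- the character after base change -/
noncomputable def chiBC (L : Type u) [CommRing L] [Algebra R L] (χ : (ZMod p)ˣ →* Rˣ) : (ZMod p)ˣ →* Lˣ :=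
  (Units.map (algebraMap R L).toMonoidHom).comp χ

theorem chiBC_val (L : Type u) [CommRing L] [Algebra R L] (m : (ZMod p)ˣ) :
    ((chiBC L χ m : Lˣ) : L) = algebraMap R L (χ m : R) := rfl

theorem eproj_baseChange (L : Type u) [CommRing L] [Algebra R L] (i : ℕ) (z : L ⊗[R] A) :
    eproj (L ⊗[R] A) (algebraMap R L u) (chiBC L χ) i z = (eproj A u χ i).baseChange L z := by
  induction z using TensorProduct.induction_on with
  | zero => simp
  | tmul l a =>
    have he : l ⊗ₜ[R] a - algebraMap L (L ⊗[R] A) (Bialgebra.counitAlgHom L (L ⊗[R] A) (l ⊗ₜ a)) =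
        l ⊗ₜ[R] (a - algebraMap R A (Bialgebra.counitAlgHom R A a)) := by
      rw [TensorProduct.tmul_sub, Algebra.algebraMap_eq_smul_one (R := R) (A := A),
        ← TensorProduct.smul_tmul, Algebra.algebraMap_eq_smul_one (R := L),
        Algebra.TensorProduct.one_def, TensorProduct.smul_tmul', smul_eq_mul, mul_one]
      congr 2
    rw [eproj_apply, he, LinearMap.baseChange_tmul, eproj_apply]
    simp only [OortTate.proj, LinearMap.smul_apply, LinearMap.sum_apply, AlgHom.toLinearMap_apply,
      SGA3bLib.powConv_baseChange, Algebra.TensorProduct.map_tmul, AlgHom.id_apply, chiBC_val, ← map_pow,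
      algebraMap_smul, TensorProduct.smul_tmul', TensorProduct.tmul_smul, TensorProduct.tmul_sum, Finset.smul_sum]
  | add x y hx hy => rw [map_add, map_add, hx, hy]

include hp in
theorem baseChange_kill (L : Type u) [CommRing L] [Algebra R L] :
    (toConv (AlgHom.id L (L ⊗[R] A))) ^ p = 1 := by
  apply WithConv.ext
  have h := SGA3bLib.powConv_baseChange (R := R) (A := A) (R' := L) p
  rw [SGA3b.powConv, SGA3b.powConv, hp] at h
  rw [h]
  refine Algebra.TensorProduct.ext' fun l a => ?_
  rw [Algebra.TensorProduct.map_tmul, AlgHom.id_apply, AlgHom.convOne_apply, AlgHom.convOne_apply,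
    Algebra.algebraMap_eq_smul_one (R := R) (A := A), ← TensorProduct.smul_tmul,
    Algebra.algebraMap_eq_smul_one (R := L), Algebra.TensorProduct.one_def, TensorProduct.smul_tmul', smul_eq_mul, mul_one]
  congr 1

include hp in
theorem baseChange_eigen (hu : u * ((p - 1 : ℕ) : R) = 1) (L : Type u) [CommRing L] [Algebra R L] (i : ℕ) :
    OortTate.eigenAug L (L ⊗[R] A) p (chiBC L χ) i = (OortTate.eigenAug R A p χ i).baseChange L := by
  refine le_antisymm (fun z hz => ?_) ?_
  · rw [← eproj_eigen_self (u := algebraMap R L u) (by rw [← map_natCast (algebraMap R L), ← map_mul, hu, map_one]) hz,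
      eproj_baseChange]
    clear hz
    induction z using TensorProduct.induction_on with
    | zero => simp
    | tmul l a => exact Submodule.tmul_mem_baseChange_of_mem l (eproj_mem hp i a)
    | add x y hx hy => rw [map_add]; exact add_mem hx hy
  · rw [Submodule.baseChange_eq_span, Submodule.span_le]
    rintro _ ⟨a, ha, rfl⟩
    rw [SetLike.mem_coe, TensorProduct.mk_apply, ← eproj_eigen_self hu ha, ← LinearMap.baseChange_tmul,
      ← eproj_baseChange]
    exact eproj_mem (baseChange_kill hp L) i _

theorem eigen_mul_mem {i j : ℕ} {a b : A} (ha : a ∈ OortTate.eigenAug R A p χ i)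
    (hb : b ∈ OortTate.eigenAug R A p χ j) : a * b ∈ OortTate.eigenAug R A p χ (i + j) := by
  refine Submodule.mem_inf.mpr ⟨?_, Submodule.mem_iInf _ |>.mpr fun m => ?_⟩
  · show Bialgebra.counitAlgHom R A (a * b) = 0
    rw [map_mul, show Bialgebra.counitAlgHom R A a = 0 from ha.1, zero_mul]
  · have h1 := Module.End.mem_eigenspace_iff.mp ((Submodule.mem_iInf _).mp ha.2 m)
    have h2 := Module.End.mem_eigenspace_iff.mp ((Submodule.mem_iInf _).mp hb.2 m)
    rw [Module.End.mem_eigenspace_iff]
    simp only [AlgHom.toLinearMap_apply] at h1 h2 ⊢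
    rw [map_mul, h1, h2, smul_mul_smul_comm, pow_add]

theorem eigen_one_pow_le {t : ℕ} (ht : 1 ≤ t) :
    (OortTate.eigenAug R A p χ 1) ^ t ≤ OortTate.eigenAug R A p χ t := by
  induction t, ht using Nat.le_induction with
  | base => rw [pow_one]
  | succ t _ ih =>
    rw [pow_succ, Submodule.mul_le]
    exact fun a ha b hb => eigen_mul_mem (ih ha) hb

theorem chi_pow_card (m : (ZMod p)ˣ) : ((χ m : Rˣ) : R) ^ (p - 1) = 1 := by
  rw [← Units.val_pow_eq_pow_val, ← map_pow, ← ZMod.card_units p, pow_card_eq_one, map_one, Units.val_one]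

theorem eigen_congr {i j : ℕ} (h : i % (p - 1) = j % (p - 1)) :
    OortTate.eigenAug R A p χ i = OortTate.eigenAug R A p χ j := by
  have : ∀ m : (ZMod p)ˣ, ((χ m : Rˣ) : R) ^ i = ((χ m : Rˣ) : R) ^ j := fun m => by
    rw [← Nat.mod_add_div i (p - 1), ← Nat.mod_add_div j (p - 1), pow_add, pow_add, pow_mul, pow_mul,
      chi_pow_card, one_pow, one_pow, h]
  simp only [OortTate.eigenAug, this]

theorem baseChange_pow_le (L : Type u) [CommRing L] [Algebra R L] (M : Submodule R A) :
    ∀ t : ℕ, 1 ≤ t → (M.baseChange L) ^ t ≤ (M ^ t).baseChange L := by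
  intro t ht
  induction t, ht using Nat.le_induction with
  | base => rw [pow_one, pow_one]
  | succ t _ ih =>
    rw [pow_succ, pow_succ]
    refine (Submodule.mul_le.mpr fun a ha b hb => Submodule.mul_mem_mul (ih ha) hb).trans ?_
    rw [Submodule.baseChange_eq_span, Submodule.baseChange_eq_span, Submodule.span_mul_span, Submodule.span_le]
    rintro _ ⟨_, ⟨a, ha, rfl⟩, _, ⟨b, hb, rfl⟩, rfl⟩
    simp only [TensorProduct.mk_apply, Algebra.TensorProduct.tmul_mul_tmul, one_mul]
    exact Submodule.tmul_mem_baseChange_of_mem _ (Submodule.mul_mem_mul ha hb)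

theorem finrank_baseChange_submodule (M : Submodule R A) (r : A →ₗ[R] M) (hr : ∀ x : M, r x = x)
    (L : Type u) [CommRing L] [Algebra R L] :
    Module.finrank L (L ⊗[R] M) = Module.finrank L (M.baseChange L) := by
  have hleft : Function.LeftInverse (r.baseChange L) (M.subtype.baseChange L) := fun z => by
    rw [← LinearMap.comp_apply, ← LinearMap.baseChange_comp,
      show r ∘ₗ M.subtype = LinearMap.id from LinearMap.ext hr, LinearMap.baseChange_id, LinearMap.id_apply]
  have hrange : LinearMap.range (M.subtype.baseChange L) = M.baseChange L := by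
    rfl
  rw [← hrange]
  exact (LinearEquiv.ofInjective _ hleft.injective).finrank_eq

theorem rankAtStalk_eq_finrank_field {M : Type u} [AddCommGroup M] [Module R M] [Module.Finite R M] [Module.Projective R M]
    (q : PrimeSpectrum R) (L : Type u) [Field L] [Algebra R L] (hq : RingHom.ker (algebraMap R L) = q.asIdeal) :
    Module.rankAtStalk M q = Module.finrank L (L ⊗[R] M) := by
  have h1 := Module.rankAtStalk_baseChange (R := R) (M := M) (⊥ : PrimeSpectrum L)
  rw [Module.rankAtStalk_eq_finrank_of_free] at h1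
  rw [show q = (⊥ : PrimeSpectrum L).comap (algebraMap R L) from
    PrimeSpectrum.ext (by rw [← hq]; rfl)]
  exact h1.symm

section Rank

variable [Module.Finite R A] [Module.Projective R A]
  (hrk : ∀ q : PrimeSpectrum R, Module.rankAtStalk A q = p) (hu : u * ((p - 1 : ℕ) : R) = 1)
  (hχ : ∀ m : (ZMod p)ˣ, m ≠ 1 → IsUnit ((χ m : R) - 1))
  (hχp : ∀ m : (ZMod p)ˣ, ((χ m : Rˣ) : R) - (((m : ZMod p).val : ℕ) : R) ∈ Ideal.span ({(p : R)} : Set R))

include hrk hu hχ hχp in
theorem fibre_eigen (L : Type u) [Field L] [IsAlgClosed L] [Algebra R L] :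
    (∀ i : ℕ, Module.finrank L ((OortTate.eigenAug R A p χ i).baseChange L) = 1) ∧
      ∀ t : ℕ, 1 ≤ t → t < p → ((OortTate.eigenAug R A p χ 1) ^ t).baseChange L =
        (OortTate.eigenAug R A p χ t).baseChange L := by
  have hp := pow_eq_one_of_rank_prime p hrk (A := A)
  have hpp : p.Prime := Fact.out
  let B := L ⊗[R] A
  have hB : Module.finrank L B = p := finrank_fibre hrk L
  have hpB := baseChange_kill hp L
  have huL : algebraMap R L u * ((p - 1 : ℕ) : L) = 1 := by rw [← map_natCast (algebraMap R L), ← map_mul, hu, map_one]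
  have hχpL : (p : L) = 0 → ∀ m : (ZMod p)ˣ, ((chiBC L χ m : Lˣ) : L) = (((m : ZMod p).val : ℕ) : L) := by
    intro h0 m
    obtain ⟨c, hc⟩ := Ideal.mem_span_singleton.mp (hχp m)
    have := congrArg (algebraMap R L) hc
    rw [map_sub, map_mul, map_natCast, map_natCast, h0, zero_mul, sub_eq_zero] at this
    exact this
  have hχL : ∀ m : (ZMod p)ˣ, m ≠ 1 → IsUnit ((chiBC L χ m : L) - 1) := fun m hm => by
    rw [chiBC_val, ← map_one (algebraMap R L), ← map_sub]; exact (hχ m hm).map _
  obtain ⟨y, hy, hy0⟩ := exists_eigen_pow_ne_zero L B p hB (algebraMap R L u) huL (chiBC L χ) hχpL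
  rw [baseChange_eigen hp hu] at hy
  have hyt : ∀ t, 1 ≤ t → y ^ t ∈ ((OortTate.eigenAug R A p χ 1) ^ t).baseChange L := fun t ht =>
    baseChange_pow_le L _ t ht (Submodule.pow_mem_pow _ hy t)
  have hle : ∀ t, 1 ≤ t → ((OortTate.eigenAug R A p χ 1) ^ t).baseChange L ≤
      (OortTate.eigenAug R A p χ t).baseChange L := fun t ht =>
    by rw [Submodule.baseChange_eq_span, Submodule.baseChange_eq_span]
       exact Submodule.span_mono (Set.image_mono (eigen_one_pow_le ht))
  have hpos : ∀ i : ℕ, 1 ≤ Module.finrank L ((OortTate.eigenAug R A p χ i).baseChange L) := by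
    intro i
    obtain ⟨t, ht1, ht2, ht3⟩ : ∃ t, 1 ≤ t ∧ t < p ∧ i % (p - 1) = t % (p - 1) := by
      rcases Nat.eq_zero_or_pos (i % (p - 1)) with h | h
      · exact ⟨p - 1, by have := hpp.two_le; omega, by have := hpp.two_le; omega, by rw [h, Nat.mod_self]⟩
      · exact ⟨i % (p - 1), h, by have := Nat.mod_lt i (show p - 1 > 0 by have := hpp.two_le; omega); omega,
          (Nat.mod_mod _ _).symm⟩
    rw [eigen_congr ht3, Submodule.one_le_finrank_iff]
    exact (Submodule.ne_bot_iff _).mpr ⟨_, hle t ht1 (hyt t ht1), hy0 t ht2⟩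
  let W : Fin (p - 1) → Submodule L B := fun i => (OortTate.eigenAug R A p χ (i : ℕ)).baseChange L
  have hW : ∀ i : Fin (p - 1), W i = OortTate.eigenAug L B p (chiBC L χ) (i : ℕ) := fun i =>
    (baseChange_eigen hp hu L _).symm
  have hsum : ∑ i : Fin (p - 1), Module.finrank L (W i) ≤ p - 1 := by
    let Ψ : ((i : Fin (p - 1)) → W i) →ₗ[L] LinearMap.ker (Bialgebra.counitAlgHom L B).toLinearMap :=
      (∑ i, (W i).subtype ∘ₗ LinearMap.proj i).codRestrict _ fun w => by
        rw [LinearMap.sum_apply]
        exact Submodule.sum_mem _ fun i _ => ((hW i).le (w i).2).1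
    have hinj : Function.Injective Ψ := by
      rw [← LinearMap.ker_eq_bot, Submodule.eq_bot_iff]
      intro w hw
      funext i
      refine Subtype.ext ?_
      have h := congrArg (fun z => OortTate.proj L B p (algebraMap R L u) (chiBC L χ) (i : ℕ) z.1) hw
      simp only [Ψ, LinearMap.codRestrict_apply, LinearMap.sum_apply, map_sum, LinearMap.comp_apply,
        LinearMap.proj_apply, Submodule.subtype_apply, ZeroMemClass.coe_zero, map_zero] at h
      rw [Finset.sum_eq_single i (fun j _ hji => proj_eigen_ne L B hχL i.2 j.2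
        (fun h' => hji (Fin.ext h'.symm)) ((hW j).le (w j).2)) (by simp),
        proj_eigen_self L B huL ((hW i).le (w i).2)] at h
      exact h
    have hk : Module.finrank L (LinearMap.ker (Bialgebra.counitAlgHom L B).toLinearMap) = p - 1 := by
      have h1 := LinearMap.finrank_range_add_finrank_ker (Bialgebra.counitAlgHom L B).toLinearMap
      rw [LinearMap.range_eq_top.mpr (fun l => ⟨algebraMap L B l, (Bialgebra.counitAlgHom L B).commutes l⟩), finrank_top, Module.finrank_self, hB] at h1
      omega
    calc _ = Module.finrank L ((i : Fin (p - 1)) → W i) := (Module.finrank_pi_fintype L).symm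
      _ ≤ Module.finrank L (LinearMap.ker (Bialgebra.counitAlgHom L B).toLinearMap) :=
        LinearMap.finrank_le_finrank_of_injective hinj
      _ = p - 1 := hk
  have hone : ∀ i : ℕ, Module.finrank L ((OortTate.eigenAug R A p χ i).baseChange L) = 1 := by
    intro i
    have hi : i % (p - 1) < p - 1 := Nat.mod_lt _ (by have := hpp.two_le; omega)
    rw [eigen_congr (Nat.mod_mod i (p - 1)).symm]
    refine le_antisymm ?_ (hpos _)
    by_contra h
    have hlt : ∑ j : Fin (p - 1), 1 < ∑ j : Fin (p - 1), Module.finrank L (W j) :=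
      Finset.sum_lt_sum (fun j _ => hpos _) ⟨⟨_, hi⟩, Finset.mem_univ _, not_le.mp h⟩
    simp only [Finset.sum_const, Finset.card_univ, Fintype.card_fin, smul_eq_mul, mul_one] at hlt
    omega
  refine ⟨hone, fun t ht htp => Submodule.eq_of_le_of_finrank_le (hle t ht) ?_⟩
  rw [hone t, Submodule.one_le_finrank_iff]
  exact (Submodule.ne_bot_iff _).mpr ⟨_, hyt t ht, hy0 t htp⟩

include hrk hu hχ hχp in
theorem rankAtStalk_eigen (i : ℕ) (q : PrimeSpectrum R) :
    Module.rankAtStalk (↥(OortTate.eigenAug R A p χ i)) q = 1 := by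
  have hp := pow_eq_one_of_rank_prime p hrk (A := A)
  haveI := eigen_finite hp hu (χ := χ) i
  haveI := eigen_projective hp hu (χ := χ) i
  let L := AlgebraicClosure q.asIdeal.ResidueField
  rw [rankAtStalk_eq_finrank_field q L (by
      rw [IsScalarTower.algebraMap_eq R q.asIdeal.ResidueField L, RingHom.ker_comp_of_injective _ (RingHom.injective _)]
      exact Ideal.ker_algebraMap_residueField q.asIdeal),
    finrank_baseChange_submodule _ ((eproj A u χ i).codRestrict _ (eproj_mem hp i))
      (fun x => Subtype.ext (eproj_eigen_self hu x.2)) L]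
  exact (fibre_eigen hrk hu hχ hχp L).1 i

include hrk hu hχ hχp in
theorem eigen_one_pow {t : ℕ} (ht : 1 ≤ t) (htp : t < p) :
    (OortTate.eigenAug R A p χ 1) ^ t = OortTate.eigenAug R A p χ t := by
  have hp := pow_eq_one_of_rank_prime p hrk (A := A)
  refine le_antisymm (eigen_one_pow_le ht) fun z hz => ?_
  set I := OortTate.eigenAug R A p χ t
  haveI := eigen_finite hp hu (χ := χ) t
  let r : A →ₗ[R] I := (eproj A u χ t).codRestrict _ (eproj_mem hp t)
  let N : Submodule R I := ((OortTate.eigenAug R A p χ 1) ^ t).comap I.subtype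
  suffices h : Subsingleton (I ⧸ N) by
    have : (⟨z, hz⟩ : I) ∈ N := (Submodule.Quotient.mk_eq_zero N).mp (Subsingleton.elim _ _)
    exact this
  rw [← Module.support_eq_empty_iff (R := R), Set.eq_empty_iff_forall_notMem]
  intro q hq
  rw [Module.mem_support_iff_nontrivial_residueField_tensorProduct] at hq
  let k := q.asIdeal.ResidueField
  let L := AlgebraicClosure k
  have hzero : ∀ w : L ⊗[R] (I ⧸ N), w = 0 := by
    intro w
    induction w using TensorProduct.induction_on with
    | zero => rfl
    | tmul l x =>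
      obtain ⟨x, rfl⟩ := Submodule.mkQ_surjective N x
      have hx : (l ⊗ₜ[R] (x : A)) ∈ ((OortTate.eigenAug R A p χ 1) ^ t).baseChange L := by
        rw [(fibre_eigen hrk hu hχ hχp L).2 t ht htp]
        exact Submodule.tmul_mem_baseChange_of_mem l x.2
      have h2 : ∀ v ∈ ((OortTate.eigenAug R A p χ 1) ^ t).baseChange L,
          (N.mkQ ∘ₗ r).baseChange L v = 0 := by
        intro v hv
        rw [Submodule.baseChange_eq_span] at hv
        induction hv using Submodule.span_induction with
        | mem _ h =>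
          obtain ⟨a, ha, rfl⟩ := h
          rw [TensorProduct.mk_apply, LinearMap.baseChange_tmul, LinearMap.comp_apply,
            show N.mkQ (r a) = 0 from (Submodule.Quotient.mk_eq_zero N).mpr (by
              show (r a : A) ∈ (OortTate.eigenAug R A p χ 1) ^ t
              rw [show (r a : A) = a from eproj_eigen_self hu (eigen_one_pow_le ht ha)]; exact ha),
            TensorProduct.tmul_zero]
        | zero => exact map_zero _
        | add _ _ _ _ h1 h2 => rw [map_add, h1, h2, add_zero]
        | smul c _ _ h1 => rw [map_smul, h1, smul_zero]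
      have h3 := h2 _ hx
      rwa [LinearMap.baseChange_tmul, LinearMap.comp_apply,
        show r (x : A) = x from Subtype.ext (eproj_eigen_self hu x.2)] at h3
    | add a b ha hb => rw [ha, hb, add_zero]
  haveI : Subsingleton (L ⊗[R] (I ⧸ N)) := ⟨fun a b => by rw [hzero a, hzero b]⟩
  have h4 := (AlgebraTensorModule.cancelBaseChange R k L L (I ⧸ N)).finrank_eq
  rw [Module.finrank_baseChange, Module.finrank_zero_of_subsingleton (M := L ⊗[R] (I ⧸ N))] at h4
  exact (not_subsingleton_iff_nontrivial.mpr hq) (Module.finrank_zero_iff.mp h4)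

end Rank

end Groth.Agent.OT
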