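import Mathlib
import Groth.Agent.OT.Eigen

/-!
# The eigen-generators of the Hopf algebra of `μ_p`
-/

set_option autoImplicit false

universe u

open TensorProduct WithConv

namespace Groth.Agent.OT

variable (p : ℕ) [Fact p.Prime] (R : Type u) [CommRing R] (u : R) (χ : (ZMod p)ˣ →* Rˣ)

local notation "T^" m => MonoidAlgebra.of R (Multiplicative (ZMod p)) (Multiplicative.ofAdd m)

theorem muP_rank (q : PrimeSpectrum R) :
    Module.rankAtStalk (MonoidAlgebra R (Multiplicative (ZMod p))) q = p := by
  rw [Module.rankAtStalk_eq_finrank_of_free]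
  show Module.finrank R (MonoidAlgebra R (Multiplicative (ZMod p))) = p
  rcases subsingleton_or_nontrivial R with h | h
  · exact absurd q.isPrime.ne_top (not_not.mpr (Subsingleton.elim _ _))
  · rw [Module.finrank_eq_nat_card_basis (MonoidAlgebra.basis (Multiplicative (ZMod p)) R)]
    simp

theorem powConv_T (n : ℕ) (a : ZMod p) :
    SGA3b.powConv R (MonoidAlgebra R (Multiplicative (ZMod p))) n (T^ a) = T^ ((n : ZMod p) * a) := by
  induction n with
  | zero => simp [SGA3b.powConv, MonoidAlgebra.one_def]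
  | succ n ih =>
    simp only [SGA3b.powConv, pow_succ, MonoidAlgebra.of_apply] at ih ⊢
    simp [AlgHom.convMul_def, ih, MonoidAlgebra.single_mul_single, add_mul, ofAdd_add]

theorem proj_T (i : ℕ) (a : ZMod p) :
    OortTate.proj R (MonoidAlgebra R (Multiplicative (ZMod p))) p u χ i ((T^ a) - 1) =
      u • ∑ m : (ZMod p)ˣ, (((χ m⁻¹ : Rˣ) : R) ^ i) • ((T^ ((m : ZMod p) * a)) - 1) := by
  simp only [OortTate.proj, LinearMap.smul_apply, LinearMap.sum_apply, AlgHom.toLinearMap_apply, map_sub, map_one,
    powConv_T, ZMod.natCast_zmod_val, smul_sub, Finset.sum_sub_distrib]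

theorem proj_T_unit (i : ℕ) (a : (ZMod p)ˣ) :
    OortTate.proj R (MonoidAlgebra R (Multiplicative (ZMod p))) p u χ i ((T^ (a : ZMod p)) - 1) =
      (((χ a : Rˣ) : R) ^ i) • OortTate.ygen R p u χ i := by
  rw [proj_T, OortTate.ygen, OortTate.muT, proj_T, smul_comm ((((χ a : Rˣ) : R) ^ i)) u, Finset.smul_sum (r := (((χ a : Rˣ) : R) ^ i))]
  congr 1
  refine Fintype.sum_equiv (Equiv.mulRight a) _ _ fun m => ?_
  simp only [Equiv.coe_mulRight, mul_one, smul_smul, ← mul_pow]
  rw [← Units.val_mul, ← Units.val_mul, ← map_mul, mul_inv_rev, mul_inv_cancel_left]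

theorem coeff_ygen (i : ℕ) :
    ((OortTate.ygen R p u χ i).coeff) (Multiplicative.ofAdd (1 : ZMod p)) = u := by
  classical
  rw [OortTate.ygen, OortTate.muT, proj_T]
  simp only [MonoidAlgebra.coeff_smul, MonoidAlgebra.coeff_sum, Finsupp.smul_apply, Finsupp.finsetSum_apply,
    MonoidAlgebra.coeff_sub, Finsupp.sub_apply, MonoidAlgebra.one_def, MonoidAlgebra.of_apply,
    MonoidAlgebra.coeff_single, Finsupp.single_apply, mul_one]
  rw [Finset.sum_eq_single (1 : (ZMod p)ˣ)]
  · simp [show (1 : Multiplicative (ZMod p)) ≠ Multiplicative.ofAdd (1 : ZMod p) from fun h => one_ne_zero (α := ZMod p) (Multiplicative.ofAdd.injective h.symm)]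
  · intro m _ hm
    rw [if_neg (fun h : Multiplicative.ofAdd (m : ZMod p) = Multiplicative.ofAdd 1 => hm (Units.ext (Multiplicative.ofAdd.injective h))),
      if_neg (fun h : (1 : Multiplicative (ZMod p)) = Multiplicative.ofAdd 1 => one_ne_zero (α := ZMod p) (Multiplicative.ofAdd.injective h.symm))]
    simp
  · simp

variable (hu : u * ((p - 1 : ℕ) : R) = 1)

include hu in
theorem smul_ygen_eq_zero {i : ℕ} {c : R} (h : c • OortTate.ygen R p u χ i = 0) : c = 0 := by
  have h1 := congrArg (fun z : MonoidAlgebra R (Multiplicative (ZMod p)) => z.coeff (Multiplicative.ofAdd (1 : ZMod p))) h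
  simp only [MonoidAlgebra.coeff_smul, Finsupp.smul_apply, coeff_ygen, smul_eq_mul, MonoidAlgebra.coeff_zero,
    Finsupp.zero_apply] at h1
  rw [← mul_one c, ← hu, ← mul_assoc, h1, zero_mul]

include hu in
theorem eigen_eq_span (i : ℕ) :
    OortTate.eigenAug R (MonoidAlgebra R (Multiplicative (ZMod p))) p χ i =
      Submodule.span R {OortTate.ygen R p u χ i} := by
  classical
  have hp := pow_eq_one_of_rank_prime p (muP_rank p R)
  refine le_antisymm (fun z hz => ?_) ((Submodule.span_singleton_le_iff_mem _ _).mpr ?_)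
  · rw [← eproj_eigen_self hu hz]
    clear hz
    induction z using MonoidAlgebra.induction_on with
    | of g =>
      obtain ⟨a, rfl⟩ : ∃ a, Multiplicative.ofAdd a = g := ⟨g.toAdd, rfl⟩
      rw [eproj_apply, show Bialgebra.counitAlgHom R _ (T^ a) = 1 by simp, map_one]
      rcases eq_or_ne a 0 with rfl | ha
      · rw [ofAdd_zero, map_one, sub_self, map_zero]; exact zero_mem _
      · lift a to (ZMod p)ˣ using isUnit_iff_ne_zero.mpr ha
        rw [proj_T_unit]
        exact Submodule.smul_mem _ _ (Submodule.mem_span_singleton_self _)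
    | add x y hx hy => rw [map_add]; exact add_mem hx hy
    | smul r x hx => rw [map_smul]; exact Submodule.smul_mem _ _ hx
  · exact proj_mem_eigen R _ hp i (by simp)

end Groth.Agent.OT
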