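import Mathlib
import Groth.Agent.OT.Eigen

/-!
# The tensor algebra presentation of a group scheme of order `p`
-/

set_option autoImplicit false

universe u

open TensorProduct WithConv

namespace Groth.Agent.OT

variable {R : Type u} [CommRing R]

section RankOne

variable {M : Type u} [AddCommGroup M] [Module R M] [Module.Finite R M] [Module.Projective R M]
  (h1 : ∀ q : PrimeSpectrum R, Module.rankAtStalk M q = 1)

include h1 in
theorem exists_local_gen (m : Ideal R) [m.IsMaximal] :
    ∃ b : Module.Basis (Fin 1) (Localization.AtPrime m) (Localization.AtPrime m ⊗[R] M), True := by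
  let S := Localization.AtPrime m
  haveI : Module.Free S (S ⊗[R] M) := Module.free_of_flat_of_isLocalRing
  have hn : Module.finrank S (S ⊗[R] M) = 1 := by
    have h2 := Module.rankAtStalk_baseChange (R := R) (M := M) (IsLocalRing.closedPoint S)
    rwa [Module.rankAtStalk_eq_finrank_of_free, h1] at h2
  exact ⟨(Module.finBasis S (S ⊗[R] M)).reindex (finCongr hn), trivial⟩

include h1 in
theorem rankOne_swap (f : M →ₗ[R] R) (a b : M) : f b • a = f a • b := by
  refine Module.eq_of_localization_maximal (R := R) (fun m hm => Localization.AtPrime m ⊗[R] M)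
    (fun m hm => TensorProduct.mk R (Localization.AtPrime m) M 1) _ _ fun m hm => ?_
  let S := Localization.AtPrime m
  obtain ⟨e, -⟩ := exists_local_gen h1 m
  let F : S ⊗[R] M →ₗ[S] S := (AlgebraTensorModule.rid R S S).toLinearMap ∘ₗ f.baseChange S
  have hF : ∀ x : M, F (1 ⊗ₜ x) = algebraMap R S (f x) := fun x => by
    simp [F, Algebra.algebraMap_eq_smul_one]
  show (1 : S) ⊗ₜ[R] (f b • a) = 1 ⊗ₜ (f a • b)
  rw [TensorProduct.tmul_smul, TensorProduct.tmul_smul, ← algebraMap_smul S (f b) ((1 : S) ⊗ₜ[R] a),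
    ← algebraMap_smul S (f a) ((1 : S) ⊗ₜ[R] b), ← hF, ← hF]
  have ha := e.sum_repr (1 ⊗ₜ[R] a)
  have hb := e.sum_repr (1 ⊗ₜ[R] b)
  rw [Fin.sum_univ_one] at ha hb
  rw [← ha, ← hb, map_smul, map_smul, smul_smul, smul_smul, smul_eq_mul, smul_eq_mul]
  congr 1
  ring

include h1 in
theorem rankOne_faithful {r : R} (hr : ∀ a : M, r • a = 0) : r = 0 := by
  refine Module.eq_of_localization_maximal (R := R) (fun m hm => Localization.AtPrime m)
    (fun m hm => Algebra.linearMap R (Localization.AtPrime m)) _ _ fun m hm => ?_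
  let S := Localization.AtPrime m
  obtain ⟨e, -⟩ := exists_local_gen h1 m
  have h : ∀ z : S ⊗[R] M, algebraMap R S r • z = 0 := fun z => by
    induction z using TensorProduct.induction_on with
    | zero => rw [smul_zero]
    | tmul s a => rw [algebraMap_smul, ← TensorProduct.tmul_smul, hr, TensorProduct.tmul_zero]
    | add x y hx hy => rw [smul_add, hx, hy, add_zero]
  have h2 := congrArg (fun z => e.repr z 0) (h (e 0))
  simp only [map_smul, Module.Basis.repr_self, Finsupp.smul_apply, Finsupp.single_eq_same, smul_eq_mul, mul_one,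
    map_zero, Finsupp.zero_apply] at h2
  simpa using h2

include h1 in
/-- A finite family `(a, f)` with `∑ f a = 1`. -/
theorem exists_partition : ∃ (n : ℕ) (a : Fin n → M) (f : Fin n → (M →ₗ[R] R)), ∑ k, f k (a k) = 1 := by
  obtain ⟨n, π, s, -, -, hπs⟩ := Module.Finite.exists_comp_eq_id_of_projective R M
  refine ⟨n, fun k => π (Pi.single k 1), fun k => LinearMap.proj k ∘ₗ s, ?_⟩
  refine sub_eq_zero.mp (rankOne_faithful h1 fun x => ?_)
  rw [sub_smul, one_smul, Finset.sum_smul, sub_eq_zero]
  calc ∑ k, (LinearMap.proj k ∘ₗ s) (π (Pi.single k 1)) • x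
      = ∑ k, (LinearMap.proj k ∘ₗ s) x • π (Pi.single k 1) := Finset.sum_congr rfl fun k _ => rankOne_swap h1 _ _ _
    _ = π (s x) := by
      conv_rhs => rw [pi_eq_sum_univ' (s x), map_sum]
      simp
    _ = x := LinearMap.congr_fun hπs x

open TensorAlgebra in
include h1 in
/-- In a power of the generators only the chosen element survives. -/
theorem smul_pow_range_ι (f : M →ₗ[R] R) (a : M) {n : ℕ} {t : TensorAlgebra R M}
    (ht : t ∈ (LinearMap.range (ι R : M →ₗ[R] TensorAlgebra R M)) ^ n) :
    ∃ s : R, (f a) ^ n • t = s • (ι R a) ^ n := by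
  induction n generalizing t with
  | zero =>
    rw [pow_zero] at ht
    obtain ⟨s, rfl⟩ := Submodule.mem_one.mp ht
    exact ⟨s, by rw [pow_zero, one_smul, pow_zero, Algebra.algebraMap_eq_smul_one]⟩
  | succ n ih =>
    rw [pow_succ] at ht
    refine Submodule.mul_induction_on ht (fun w hw v hv => ?_) (fun w v ⟨s, hs⟩ ⟨s', hs'⟩ => ⟨s + s', by rw [smul_add, hs, hs', add_smul]⟩)
    obtain ⟨b, rfl⟩ := hv
    obtain ⟨s, hs⟩ := ih hw
    refine ⟨s * f b, ?_⟩
    rw [pow_succ, ← smul_mul_smul_comm, hs, ← map_smul, rankOne_swap h1 f b a, map_smul, smul_mul_smul_comm, ← pow_succ]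

end RankOne

variable {A : Type u} [CommRing A] [HopfAlgebra R A] [Module.Finite R A] [Module.Projective R A] {p : ℕ}
  [Fact p.Prime] {u : R} {χ : (ZMod p)ˣ →* Rˣ}
  (hrk : ∀ q : PrimeSpectrum R, Module.rankAtStalk A q = p) (hu : u * ((p - 1 : ℕ) : R) = 1)
  (hχ : ∀ m : (ZMod p)ˣ, m ≠ 1 → IsUnit ((χ m : R) - 1))
  (hχp : ∀ m : (ZMod p)ˣ, ((χ m : Rˣ) : R) - (((m : ZMod p).val : ℕ) : R) ∈ Ideal.span ({(p : R)} : Set R))


theorem lift_mem_pow {n : ℕ} {t : TensorAlgebra R (OortTate.eigenAug R A p χ 1)}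
    (ht : t ∈ (LinearMap.range (TensorAlgebra.ι R : OortTate.eigenAug R A p χ 1 →ₗ[R] _)) ^ n) :
    (TensorAlgebra.lift R (OortTate.eigenAug R A p χ 1).subtype) t ∈ (OortTate.eigenAug R A p χ 1) ^ n := by
  induction n generalizing t with
  | zero =>
    rw [pow_zero] at ht ⊢
    obtain ⟨s, rfl⟩ := Submodule.mem_one.mp ht
    rw [AlgHom.commutes]
    exact Submodule.mem_one.mpr ⟨s, rfl⟩
  | succ n ih =>
    rw [pow_succ] at ht ⊢
    refine Submodule.mul_induction_on ht (fun w hw v hv => ?_) (fun w v hw hv => by rw [map_add]; exact add_mem hw hv)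
    obtain ⟨b, rfl⟩ := hv
    rw [map_mul, TensorAlgebra.lift_ι_apply]
    exact Submodule.mul_mem_mul (ih hw) b.2

include hrk hu hχ hχp in
theorem lift_surjective : Function.Surjective (TensorAlgebra.lift R (OortTate.eigenAug R A p χ 1).subtype) := by
  have hp := pow_eq_one_of_rank_prime p hrk (A := A)
  have hp1 : 1 < p := (Fact.out : p.Prime).one_lt
  intro z
  have hrange : ∀ t : ℕ, 1 ≤ t → t < p → OortTate.eigenAug R A p χ t ≤ ((TensorAlgebra.lift R (OortTate.eigenAug R A p χ 1).subtype)).toLinearMap.range := by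
    intro t ht htp
    rw [← eigen_one_pow hrk hu hχ hχp ht htp]
    clear ht htp
    intro a ha
    induction ha using Submodule.pow_induction_on_left' with
    | algebraMap r => exact ⟨algebraMap R _ r, ((TensorAlgebra.lift R (OortTate.eigenAug R A p χ 1).subtype)).commutes r⟩
    | add x y i _ _ hx hy => exact add_mem hx hy
    | mem_mul m hm i x _ hx =>
      obtain ⟨w, rfl⟩ := hx
      exact ⟨TensorAlgebra.ι R ⟨m, hm⟩ * w, by simp⟩
  have hk : ∀ a, Bialgebra.counitAlgHom R A a = 0 → a ∈ ((TensorAlgebra.lift R (OortTate.eigenAug R A p χ 1).subtype)).toLinearMap.range := by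
    intro a ha
    rw [← sum_proj R A (p := p) hu hχ a]
    refine Submodule.sum_mem _ fun i _ => ?_
    rcases Nat.eq_zero_or_pos (i : ℕ) with h | h
    · have h' := proj_mem_eigen R A hp (u := u) (χ := χ) (i : ℕ) ha
      rw [h] at h' ⊢
      rw [eigen_congr (j := p - 1) (by simp)] at h'
      exact hrange _ (by omega) (by omega) h'
    · exact hrange _ h (by omega) (proj_mem_eigen R A hp _ ha)
  obtain ⟨w, hw⟩ := hk _ (sub_counit_mem A z)
  refine ⟨w + algebraMap R _ (Bialgebra.counitAlgHom R A z), ?_⟩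
  rw [map_add, AlgHom.commutes, ← AlgHom.toLinearMap_apply, hw, sub_add_cancel]

include hrk hu hχ hχp in
theorem lift_injective_pow {n : ℕ} (hn : n < p) {t : TensorAlgebra R (OortTate.eigenAug R A p χ 1)}
    (ht : t ∈ (LinearMap.range (TensorAlgebra.ι R : OortTate.eigenAug R A p χ 1 →ₗ[R] _)) ^ n)
    (h0 : (TensorAlgebra.lift R (OortTate.eigenAug R A p χ 1).subtype) t = 0) : t = 0 := by
  rcases Nat.eq_zero_or_pos n with rfl | hn0
  · rw [pow_zero] at ht
    obtain ⟨s, rfl⟩ := Submodule.mem_one.mp ht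
    rw [AlgHom.commutes] at h0
    have : Bialgebra.counitAlgHom R A (algebraMap R A s) = 0 := by rw [h0, map_zero]
    rw [AlgHom.commutes] at this
    rw [show s = 0 from this, map_zero]
  have hp := pow_eq_one_of_rank_prime p hrk (A := A)
  haveI := eigen_finite hp hu (χ := χ) 1
  haveI := eigen_projective hp hu (χ := χ) 1
  haveI := eigen_finite hp hu (χ := χ) n
  haveI := eigen_projective hp hu (χ := χ) n
  have h1 := rankAtStalk_eigen hrk hu hχ hχp 1
  obtain ⟨k, a, f, hc⟩ := exists_partition h1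
  have hkill : ∀ i, (f i (a i)) ^ (2 * n) • t = 0 := by
    intro i
    obtain ⟨s, hs⟩ := smul_pow_range_ι h1 (f i) (a i) ht
    have hsa : s • ((a i : A) ^ n) = 0 := by
      have h := congrArg (TensorAlgebra.lift R (OortTate.eigenAug R A p χ 1).subtype) hs
      rw [map_smul, h0, smul_zero, map_smul, map_pow, TensorAlgebra.lift_ι_apply] at h
      exact h.symm
    have hs0 : s * (f i (a i)) ^ n = 0 := by
      refine rankOne_faithful (rankAtStalk_eigen hrk hu hχ hχp n) fun z => ?_
      apply Subtype.ext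
      rw [Submodule.coe_smul, ZeroMemClass.coe_zero]
      obtain ⟨w, hw, hwz⟩ : ∃ w ∈ (LinearMap.range (TensorAlgebra.ι R : OortTate.eigenAug R A p χ 1 →ₗ[R] _)) ^ n,
          (TensorAlgebra.lift R (OortTate.eigenAug R A p χ 1).subtype) w = (z : A) := by
        have hz : (z : A) ∈ (OortTate.eigenAug R A p χ 1) ^ n := (eigen_one_pow hrk hu hχ hχp hn0 hn).ge z.2
        have e : (LinearMap.range (TensorAlgebra.ι R : OortTate.eigenAug R A p χ 1 →ₗ[R] _)).map ((TensorAlgebra.lift R (OortTate.eigenAug R A p χ 1).subtype)).toLinearMap =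
            OortTate.eigenAug R A p χ 1 := by
          rw [← LinearMap.range_comp]
          conv_rhs => rw [← Submodule.range_subtype (OortTate.eigenAug R A p χ 1)]
          congr 1
          exact LinearMap.ext fun x => by simp
        rw [← e, ← Submodule.map_pow] at hz
        exact hz
      obtain ⟨s', hs'⟩ := smul_pow_range_ι h1 (f i) (a i) hw
      have h := congrArg (TensorAlgebra.lift R (OortTate.eigenAug R A p χ 1).subtype) hs'
      rw [map_smul, hwz, map_smul, map_pow, TensorAlgebra.lift_ι_apply] at h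
      rw [mul_smul, h, smul_comm]
      show s' • (s • (a i : A) ^ n) = 0
      rw [hsa, smul_zero]
    rw [two_mul, pow_add, mul_smul, hs, smul_smul, mul_comm, hs0, zero_smul]
  have htop : Ideal.span ((fun c : R => c ^ (2 * n)) '' Set.range fun i => f i (a i)) = ⊤ := by
    refine Ideal.span_pow_eq_top _ (eq_top_iff.mpr fun r _ => ?_) _
    rw [← mul_one r, ← hc, Finset.mul_sum]
    exact Ideal.sum_mem _ fun i _ => Ideal.mul_mem_left _ _ (Ideal.subset_span ⟨i, rfl⟩)
  have hann : ∀ r ∈ Ideal.span ((fun c : R => c ^ (2 * n)) '' Set.range fun i => f i (a i)), r • t = 0 := by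
    intro r hr
    induction hr using Submodule.span_induction with
    | mem _ h => obtain ⟨_, ⟨i, rfl⟩, rfl⟩ := h; exact hkill i
    | zero => exact zero_smul _ _
    | add _ _ _ _ h1 h2 => rw [add_smul, h1, h2, add_zero]
    | smul c _ _ h1 => rw [smul_eq_mul, mul_smul, h1, smul_zero]
  rw [← one_smul R t]
  exact hann 1 (htop ▸ Submodule.mem_top)

/-- The span of the words of length `< p`. -/
noncomputable def shortWords (A' : Submodule R A) (p : ℕ) : Submodule R (TensorAlgebra R A') :=
  ⨆ n : Fin p, (LinearMap.range (TensorAlgebra.ι R : A' →ₗ[R] _)) ^ (n : ℕ)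

include hrk hu hχ hχp in
theorem lift_injective_short {t : TensorAlgebra R (OortTate.eigenAug R A p χ 1)}
    (ht : t ∈ shortWords (OortTate.eigenAug R A p χ 1) p) (h0 : (TensorAlgebra.lift R (OortTate.eigenAug R A p χ 1).subtype) t = 0) : t = 0 := by
  classical
  have hp1 : 1 < p := (Fact.out : p.Prime).one_lt
  rw [shortWords, Submodule.mem_iSup_iff_exists_finsupp] at ht
  obtain ⟨w, hw, rfl⟩ := ht
  rw [Finsupp.sum_fintype _ _ (fun _ => rfl)] at h0 ⊢
  rw [map_sum] at h0
  -- the constant term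
  have hε : ∀ n : Fin p, (n : ℕ) ≠ 0 → Bialgebra.counitAlgHom R A ((TensorAlgebra.lift R (OortTate.eigenAug R A p χ 1).subtype) (w n)) = 0 := fun n hn =>
    ((eigen_one_pow_le (Nat.pos_of_ne_zero hn)) (lift_mem_pow (hw n))).1
  let o : Fin p := ⟨0, by omega⟩
  have hw0 : w o = 0 := by
    have h := congrArg (Bialgebra.counitAlgHom R A) h0
    rw [map_sum, map_zero, Finset.sum_eq_single o (fun n _ hn => hε n fun h => hn (Fin.ext h)) (by simp)] at h
    refine lift_injective_pow hrk hu hχ hχp o.2 (hw o) ?_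
    obtain ⟨s, hs⟩ := Submodule.mem_one.mp (show w o ∈ (1 : Submodule R _) from (pow_zero (LinearMap.range (TensorAlgebra.ι R : OortTate.eigenAug R A p χ 1 →ₗ[R] _))) ▸ hw o)
    rw [← hs, AlgHom.commutes] at h ⊢
    rw [AlgHom.commutes] at h
    rw [show s = 0 from h, map_zero]
  refine Finset.sum_eq_zero fun n _ => ?_
  rcases Nat.eq_zero_or_pos (n : ℕ) with hn | hn
  · rw [show n = o from Fin.ext hn]; exact hw0
  refine lift_injective_pow hrk hu hχ hχp n.2 (hw n) ?_
  have h := congrArg (OortTate.proj R A p u χ ((n : ℕ) % (p - 1))) h0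
  rw [map_sum, map_zero, Finset.sum_eq_single n ?_ (by simp)] at h
  · have hmem := eigen_one_pow_le hn (lift_mem_pow (hw n))
    rw [eigen_congr (Nat.mod_mod (n : ℕ) (p - 1)).symm] at hmem
    rwa [proj_eigen_self R A hu hmem] at h
  · intro m _ hmn
    rcases Nat.eq_zero_or_pos (m : ℕ) with hm | hm
    · rw [show m = o from Fin.ext hm, hw0, map_zero, map_zero]
    · have hmem := eigen_one_pow_le hm (lift_mem_pow (hw m))
      rw [eigen_congr (Nat.mod_mod (m : ℕ) (p - 1)).symm] at hmem
      refine proj_eigen_ne R A hχ (Nat.mod_lt _ (by omega)) (Nat.mod_lt _ (by omega)) (fun h => hmn ?_) hmem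
      have h3 : ∀ x : Fin p, 1 ≤ (x : ℕ) → (x : ℕ) % (p - 1) = if (x : ℕ) = p - 1 then 0 else (x : ℕ) := fun x hx => by
        split_ifs with hh
        · rw [hh, Nat.mod_self]
        · exact Nat.mod_eq_of_lt (by omega)
      rw [h3 n hn, h3 m hm] at h
      apply Fin.ext
      split_ifs at h <;> omega

include hrk hu hχ hχp in
theorem ker_lift :
    RingHom.ker (TensorAlgebra.lift R (OortTate.eigenAug R A p χ 1).subtype) = Ideal.span {x : TensorAlgebra R (OortTate.eigenAug R A p χ 1) |
      ∃ (f : Fin p → OortTate.eigenAug R A p χ 1) (g : OortTate.eigenAug R A p χ 1),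
        (g : A) = ∏ i, (f i : A) ∧
        x = (List.ofFn fun i => TensorAlgebra.ι R (f i)).prod - TensorAlgebra.ι R g} := by
  classical
  have hp1 : 1 < p := (Fact.out : p.Prime).one_lt
  set J := Ideal.span {x : TensorAlgebra R (OortTate.eigenAug R A p χ 1) |
      ∃ (f : Fin p → OortTate.eigenAug R A p χ 1) (g : OortTate.eigenAug R A p χ 1),
        (g : A) = ∏ i, (f i : A) ∧
        x = (List.ofFn fun i => TensorAlgebra.ι R (f i)).prod - TensorAlgebra.ι R g}
  have hJ : J ≤ RingHom.ker (TensorAlgebra.lift R (OortTate.eigenAug R A p χ 1).subtype) := by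
    refine Ideal.span_le.mpr ?_
    rintro _ ⟨f, g, hg, rfl⟩
    rw [SetLike.mem_coe, RingHom.mem_ker, map_sub, map_list_prod, List.map_ofFn, TensorAlgebra.lift_ι_apply, sub_eq_zero,
      Submodule.subtype_apply, hg, List.prod_ofFn]
    simp
  set V := LinearMap.range (TensorAlgebra.ι R : OortTate.eigenAug R A p χ 1 →ₗ[R] _)
  let K : Submodule R (TensorAlgebra R (OortTate.eigenAug R A p χ 1)) :=
    shortWords (OortTate.eigenAug R A p χ 1) p ⊔ J.restrictScalars R
  have hshort : ∀ n, n < p → V ^ n ≤ K := fun n hn =>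
    le_sup_of_le_left (le_iSup (fun n : Fin p => V ^ (n : ℕ)) ⟨n, hn⟩)
  have hpK : V ^ p ≤ K := by
    rw [Submodule.pow_eq_span_pow_set, Submodule.span_le]
    intro x hx
    obtain ⟨g, rfl⟩ := Set.mem_pow.mp hx
    choose f hf using fun i => (g i).2
    have hgm : (∏ i, (f i : A)) ∈ OortTate.eigenAug R A p χ 1 := by
      refine (eigen_congr (i := p) (j := 1) ?_).le ?_
      · conv_lhs => rw [show p = 1 + (p - 1) by omega]
        simp [Nat.add_mod_right]
      refine eigen_one_pow_le (by omega) ?_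
      have hmem : ∀ n (f : Fin n → OortTate.eigenAug R A p χ 1),
          (∏ i, (f i : A)) ∈ (OortTate.eigenAug R A p χ 1) ^ n := by
        intro n
        induction n with
        | zero => intro f; rw [pow_zero, Fin.prod_univ_zero]; exact Submodule.mem_one.mpr ⟨1, map_one _⟩
        | succ n ih => intro f; rw [pow_succ', Fin.prod_univ_succ]; exact Submodule.mul_mem_mul (f 0).2 (ih _)
      exact hmem p f
    have he : (List.ofFn fun i => (g i : TensorAlgebra R (OortTate.eigenAug R A p χ 1))).prod =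
        ((List.ofFn fun i => TensorAlgebra.ι R (f i)).prod - TensorAlgebra.ι R ⟨_, hgm⟩) + TensorAlgebra.ι R ⟨_, hgm⟩ := by
      rw [sub_add_cancel]; simp only [hf]
    rw [SetLike.mem_coe, he]
    refine add_mem (Submodule.mem_sup_right (Ideal.subset_span ⟨f, ⟨_, hgm⟩, rfl, rfl⟩)) ?_
    exact hshort 1 hp1 (by rw [pow_one]; exact LinearMap.mem_range_self _ _)
  have hmulι : ∀ v ∈ V, ∀ x ∈ K, v * x ∈ K := by
    intro v hv x hx
    obtain ⟨y, hy, z, hz, rfl⟩ := Submodule.mem_sup.mp hx
    rw [mul_add]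
    refine add_mem ?_ (Submodule.mem_sup_right (Ideal.mul_mem_left J v hz))
    rw [shortWords] at hy
    clear hx
    induction hy using Submodule.iSup_induction' with
    | mem n y hy =>
      have hvy : v * y ∈ V ^ ((n : ℕ) + 1) := by rw [pow_succ']; exact Submodule.mul_mem_mul hv hy
      rcases (show (n : ℕ) + 1 < p ∨ (n : ℕ) + 1 = p by omega) with h | h
      · exact hshort _ h hvy
      · rw [h] at hvy; exact hpK hvy
    | zero => rw [mul_zero]; exact zero_mem _
    | add y y' _ _ h h' => rw [mul_add]; exact add_mem h h'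
  have hall : ∀ t : TensorAlgebra R (OortTate.eigenAug R A p χ 1), t ∈ K := by
    suffices h : ∀ t : TensorAlgebra R (OortTate.eigenAug R A p χ 1), ∀ x ∈ K, t * x ∈ K by
      intro t
      have h1 := h t 1 (hshort 0 (by omega) (by rw [pow_zero]; exact Submodule.mem_one.mpr ⟨1, map_one _⟩))
      rwa [mul_one] at h1
    intro t
    induction t using TensorAlgebra.induction with
    | algebraMap r => exact fun x hx => by rw [← Algebra.smul_def]; exact K.smul_mem r hx
    | ι v => exact fun x hx => hmulι _ (LinearMap.mem_range_self _ v) x hx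
    | mul a b ha hb => exact fun x hx => by rw [mul_assoc]; exact ha _ (hb x hx)
    | add a b ha hb => exact fun x hx => by rw [add_mul]; exact add_mem (ha x hx) (hb x hx)
  refine le_antisymm (fun t ht => ?_) hJ
  obtain ⟨y, hy, z, hz, rfl⟩ := Submodule.mem_sup.mp (hall t)
  rw [RingHom.mem_ker, map_add, show (TensorAlgebra.lift R (OortTate.eigenAug R A p χ 1).subtype) z = 0 from hJ hz, add_zero] at ht
  rw [lift_injective_short hrk hu hχ hχp hy ht, zero_add]
  exact hz

end Groth.Agent.OT
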