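import Mathlib
import Groth.Agent.OT.TensorPres
import Groth.Agent.OT.MuP
import Groth.Agent.OT.DualEigen
import Groth.Agent.S18471

/-!
# The pairing between a group scheme of order `p` and its dual
-/

set_option autoImplicit false

universe u

open TensorProduct WithConv

namespace Groth.Agent.OT

section DualRank

variable {R : Type u} [CommRing R] {A : Type u} [CommRing A] [Algebra R A] [Module.Finite R A] [Module.Projective R A]

/-- extension of a functional to a base change -/
noncomputable def dualBC (S : Type u) [CommRing S] [Algebra R S] :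
    S ⊗[R] CartDual.D R A →ₗ[S] Module.Dual S (S ⊗[R] A) :=
  (Module.Dual.baseChange S ∘ₗ (CartDual.toDual R A).toLinearMap).liftBaseChange S

theorem dualBC_tmul (S : Type u) [CommRing S] [Algebra R S] (c : S) (f : CartDual.D R A) (x : A) :
    dualBC S (c ⊗ₜ f) (1 ⊗ₜ x) = c * algebraMap R S (f.ofConv x) := by
  simp [dualBC, Algebra.algebraMap_eq_smul_one]

theorem dualBC_bijective (S : Type u) [CommRing S] [Algebra R S] :
    Function.Bijective (dualBC (R := R) (A := A) S) := by
  obtain ⟨n, π, s, -, -, hπs⟩ := Module.Finite.exists_comp_eq_id_of_projective R A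
  let e : Fin n → A := fun i => π (Pi.single i 1)
  let d : Fin n → CartDual.D R A := fun i => toConv (LinearMap.proj i ∘ₗ s)
  have hx : ∀ x : A, ∑ i, s x i • e i = x := fun x => by
    conv_rhs => rw [← LinearMap.id_apply (R := R) x, ← hπs, LinearMap.comp_apply, pi_eq_sum_univ' (s x), map_sum]
    simp [e]
  have hleft : ∀ z : S ⊗[R] CartDual.D R A, ∑ i, dualBC S z (1 ⊗ₜ e i) • ((1 : S) ⊗ₜ[R] d i) = z := by
    intro z
    induction z using TensorProduct.induction_on with
    | zero => simp
    | tmul c f =>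
      have hf : ∑ i, f.ofConv (e i) • d i = f := by
        apply (CartDual.toDual R A).injective
        refine LinearMap.ext fun x => ?_
        rw [map_sum]
        simp only [CartDual.toDual_apply, LinearMap.sum_apply, map_smul, LinearMap.smul_apply, d, ofConv_toConv,
          LinearMap.comp_apply, LinearMap.proj_apply, smul_eq_mul]
        conv_rhs => rw [← hx x, map_sum]
        simp [mul_comm]
      conv_rhs => rw [← hf, TensorProduct.tmul_sum]
      refine Finset.sum_congr rfl fun i _ => ?_
      rw [dualBC_tmul, mul_smul, algebraMap_smul, TensorProduct.smul_tmul', TensorProduct.smul_tmul', smul_eq_mul,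
        mul_smul_comm, mul_one, TensorProduct.smul_tmul]
    | add a b ha hb => simp only [map_add, LinearMap.add_apply, add_smul, Finset.sum_add_distrib, ha, hb]
  refine ⟨fun a b h => by rw [← hleft a, ← hleft b, h], fun φ => ⟨∑ i, φ (1 ⊗ₜ e i) • ((1 : S) ⊗ₜ[R] d i), ?_⟩⟩
  refine TensorProduct.AlgebraTensorModule.curry_injective (LinearMap.ext_ring (LinearMap.ext fun x => ?_))
  show (dualBC S) _ (1 ⊗ₜ[R] x) = φ (1 ⊗ₜ[R] x)
  rw [map_sum, LinearMap.sum_apply]
  conv_rhs => rw [← hx x, TensorProduct.tmul_sum, map_sum]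
  refine Finset.sum_congr rfl fun i _ => ?_
  rw [map_smul, LinearMap.smul_apply, dualBC_tmul, one_mul, smul_eq_mul, TensorProduct.tmul_smul,
    LinearMap.map_smul_of_tower, Algebra.smul_def, mul_comm]
  rfl

theorem rank_dual {p : ℕ} (hrk : ∀ q : PrimeSpectrum R, Module.rankAtStalk A q = p) (q : PrimeSpectrum R) :
    Module.rankAtStalk (CartDual.D R A) q = p := by
  let S := Localization.AtPrime q.asIdeal
  haveI : Module.Free S (S ⊗[R] A) := Module.free_of_flat_of_isLocalRing
  rw [Module.rankAtStalk_eq_finrank_tensorProduct,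
    (LinearEquiv.ofBijective (dualBC S) (dualBC_bijective S)).finrank_eq, Module.finrank_linearMap_self,
    ← Module.rankAtStalk_eq_finrank_tensorProduct, hrk]

end DualRank

variable {R : Type u} [CommRing R] {A : Type u} [CommRing A] [HopfAlgebra R A] [Coalgebra.IsCocomm R A]
  [Module.Finite R A] [Module.Projective R A] {p : ℕ} [Fact p.Prime] {u : R} {χ : (ZMod p)ˣ →* Rˣ}
  (hp : (toConv (AlgHom.id R A)) ^ p = 1) (hu : u * ((p - 1 : ℕ) : R) = 1)
  (hrk : ∀ q : PrimeSpectrum R, Module.rankAtStalk A q = p)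
  (hχ : ∀ m : (ZMod p)ˣ, m ≠ 1 → IsUnit ((χ m : R) - 1))
  (hχp : ∀ m : (ZMod p)ˣ, ((χ m : Rˣ) : R) - (((m : ZMod p).val : ℕ) : R) ∈ Ideal.span ({(p : R)} : Set R))

/-- the endomorphism `x ↦ ξ x • a` -/
noncomputable def op (a : A) (ξ : CartDual.D R A) : WithConv (A →ₗ[R] A) :=
  toConv (LinearMap.toSpanSingleton R A a ∘ₗ ξ.ofConv)

theorem op_apply (a : A) (ξ : CartDual.D R A) (x : A) : (op a ξ).ofConv x = ξ.ofConv x • a := rfl

theorem op_mul (a b : A) (ξ η : CartDual.D R A) : op a ξ * op b η = op (a * b) (ξ * η) := by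
  refine WithConv.ext (LinearMap.ext fun x => ?_)
  rw [op_apply, LinearMap.convMul_apply, LinearMap.convMul_apply]
  induction Coalgebra.comul (R := R) x using TensorProduct.induction_on with
  | zero => simp
  | tmul y z => simp [op, smul_mul_smul_comm, smul_smul, mul_comm]
  | add y z hy hz => simp only [map_add, add_smul, hy, hz]

include hp hu in
theorem dual_eigen_apply {i : ℕ} {f : CartDual.D R A}
    (hf : f ∈ OortTate.eigenAug R (CartDual.D R A) p χ i) (z : A) :
    f.ofConv z = f.ofConv (eproj A u χ i z) := by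
  have hproj : ∀ x, (OortTate.proj R (CartDual.D R A) p u χ i f).ofConv x = f.ofConv (OortTate.proj R A p u χ i x) := by
    intro x
    simp only [OortTate.proj, LinearMap.smul_apply, LinearMap.sum_apply, AlgHom.toLinearMap_apply, map_smul, map_sum,
      WithConv.ofConv_smul, LinearMap.smul_apply]
    rw [show ∀ g : (ZMod p)ˣ → CartDual.D R A, (∑ m, g m).ofConv = ∑ m, (g m).ofConv from
      fun g => map_sum (CartDual.toDual R A) g _]
    simp only [LinearMap.sum_apply, WithConv.ofConv_smul, LinearMap.smul_apply, dual_powConv]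
  have h1 : f.ofConv 1 = 0 := hf.1
  calc f.ofConv z = f.ofConv (z - algebraMap R A (Bialgebra.counitAlgHom R A z)) := by
        rw [map_sub, Algebra.algebraMap_eq_smul_one, map_smul, h1, smul_zero, sub_zero]
    _ = (OortTate.proj R (CartDual.D R A) p u χ i f).ofConv (z - algebraMap R A (Bialgebra.counitAlgHom R A z)) := by
        rw [proj_eigen_self R (CartDual.D R A) hu hf]
    _ = _ := hproj _

section Mu

/-- powers of the identity as a character of `ℤ/p` -/
noncomputable def powHom (hp : (toConv (AlgHom.id R A)) ^ p = 1) :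
    Multiplicative (ZMod p) →* WithConv (A →ₗ[R] A) where
  toFun a := toConv (AlgHom.id R A).toLinearMap ^ a.toAdd.val
  map_one' := by rw [toAdd_one, ZMod.val_zero, pow_zero]
  map_mul' a b := by
    have hp' : toConv (AlgHom.id R A).toLinearMap ^ p = 1 := by
      have := congrArg (fun w : WithConv (A →ₐ[R] A) => toConv w.ofConv.toLinearMap) hp
      simp only [AlgHom.toLinearMap_convPow, AlgHom.toLinearMap_convOne] at this
      exact this
    rw [toAdd_mul, ZMod.val_add, ← pow_add, pow_mod _ hp']
where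
  pow_mod {M : Type u} [Monoid M] (x : M) {p : ℕ} (h : x ^ p = 1) {n : ℕ} : x ^ (n % p) = x ^ n := by
    conv_rhs => rw [← Nat.mod_add_div n p, pow_add, pow_mul, h, one_pow, mul_one]

/-- the comorphism of the Cartier pairing, as endomorphisms -/
noncomputable def psi (hp : (toConv (AlgHom.id R A)) ^ p = 1) :
    MonoidAlgebra R (Multiplicative (ZMod p)) →ₐ[R] WithConv (A →ₗ[R] A) :=
  MonoidAlgebra.lift R (WithConv (A →ₗ[R] A)) (Multiplicative (ZMod p)) (powHom hp)

theorem psi_T (a : ZMod p) (x : A) :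
    (psi hp (MonoidAlgebra.of R _ (Multiplicative.ofAdd a))).ofConv x = SGA3b.powConv R A a.val x := by
  rw [psi, MonoidAlgebra.lift_of]
  show (toConv (AlgHom.id R A).toLinearMap ^ a.val).ofConv x = _
  rw [← ofConv_toConv (AlgHom.id R A), ← AlgHom.toLinearMap_convPow]
  rfl

theorem psi_ygen (i : ℕ) : psi hp (OortTate.ygen R p u χ i) = toConv (eproj A u χ i) := by
  rw [OortTate.ygen, OortTate.muT, proj_T]
  refine WithConv.ext (LinearMap.ext fun x => ?_)
  rw [map_smul, map_sum, WithConv.ofConv_smul, LinearMap.smul_apply, ofConv_toConv, eproj_apply, OortTate.proj,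
    LinearMap.smul_apply, LinearMap.sum_apply]
  congr 1
  rw [show ∀ g : (ZMod p)ˣ → WithConv (A →ₗ[R] A), (∑ m, g m).ofConv = ∑ m, (g m).ofConv from
    fun g => map_sum (WithConv.linearEquiv R (A →ₗ[R] A)) g _, LinearMap.sum_apply]
  refine Finset.sum_congr rfl fun m _ => ?_
  rw [map_smul, WithConv.ofConv_smul, LinearMap.smul_apply, LinearMap.smul_apply, mul_one, map_sub, map_one,
    WithConv.ofConv_sub, LinearMap.sub_apply, psi_T, AlgHom.toLinearMap_apply, map_sub, AlgHom.commutes]
  rfl

end Mu

include hu hχ hχp in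
/-- The multiplication constants of the eigen-generators of `μ_p`. -/
theorem exists_ygen_mul (n : ℕ) :
    ∃ c : R, OortTate.ygen R p u χ 1 * OortTate.ygen R p u χ n = c • OortTate.ygen R p u χ (n + 1) := by
  have h1 : ∀ i, OortTate.ygen R p u χ i ∈
      OortTate.eigenAug R (MonoidAlgebra R (Multiplicative (ZMod p))) p χ i := fun i => by
    rw [eigen_eq_span p R u χ hu]; exact Submodule.mem_span_singleton_self _
  have h := eigen_mul_mem (h1 1) (h1 n)
  rw [eigen_eq_span p R u χ hu, Submodule.mem_span_singleton, add_comm] at h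
  obtain ⟨c, hc⟩ := h
  exact ⟨c, hc.symm⟩

include hp hu hrk hχ hχp in
/-- On eigenspaces of rank one the pairing is scalar. -/
theorem op_eigen {i : ℕ} {a : A} (ha : a ∈ OortTate.eigenAug R A p χ i) {f : CartDual.D R A}
    (hf : f ∈ OortTate.eigenAug R (CartDual.D R A) p χ i) :
    op a f = f.ofConv a • toConv (eproj A u χ i) := by
  haveI := eigen_finite hp hu (χ := χ) i
  haveI := eigen_projective hp hu (χ := χ) i
  refine WithConv.ext (LinearMap.ext fun z => ?_)
  rw [op_apply, dual_eigen_apply hp hu hf, WithConv.ofConv_smul, LinearMap.smul_apply, ofConv_toConv]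
  exact congrArg Subtype.val (rankOne_swap (rankAtStalk_eigen hrk hu hχ hχp i)
    (f.ofConv ∘ₗ (OortTate.eigenAug R A p χ i).subtype) ⟨a, ha⟩ ⟨_, eproj_mem hp i z⟩)

include hp hu hrk hχ hχp in
/-- The universal multiplicativity of the pairing. -/
theorem pairing_mul {n : ℕ} (hn : 1 ≤ n) (hn' : n + 1 < p) {c : R}
    (hc : OortTate.ygen R p u χ 1 * OortTate.ygen R p u χ n = c • OortTate.ygen R p u χ (n + 1))
    {f g : CartDual.D R A} (hf : f ∈ OortTate.eigenAug R (CartDual.D R A) p χ 1)
    (hg : g ∈ OortTate.eigenAug R (CartDual.D R A) p χ n)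
    {a b : A} (ha : a ∈ OortTate.eigenAug R A p χ 1) (hb : b ∈ OortTate.eigenAug R A p χ n) :
    (f * g).ofConv (a * b) = c * (f.ofConv a * g.ofConv b) := by
  haveI := eigen_finite hp hu (χ := χ) 1
  haveI := eigen_projective hp hu (χ := χ) 1
  haveI := eigen_finite hp hu (χ := χ) n
  haveI := eigen_projective hp hu (χ := χ) n
  haveI := eigen_finite hp hu (χ := χ) (n + 1)
  haveI := eigen_projective hp hu (χ := χ) (n + 1)
  have key : ∀ {a' b' : A}, a' ∈ OortTate.eigenAug R A p χ 1 → b' ∈ OortTate.eigenAug R A p χ n →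
      (f * g).ofConv (a * b) • (a' * b') = (c * (f.ofConv a * g.ofConv b)) • (a' * b') := by
    intro a' b' ha' hb'
    have h := congrArg (fun w : WithConv (A →ₗ[R] A) => w.ofConv (a * b)) (op_mul a' b' f g)
    simp only [op_apply] at h
    rw [← h, op_eigen hp hu hrk hχ hχp ha' hf, op_eigen hp hu hrk hχ hχp hb' hg, smul_mul_smul_comm,
      ← psi_ygen hp, ← psi_ygen hp, ← map_mul, hc, map_smul, psi_ygen hp, WithConv.ofConv_smul, WithConv.ofConv_smul,
      LinearMap.smul_apply, LinearMap.smul_apply, ofConv_toConv,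
      eproj_eigen_self hu (add_comm 1 n ▸ eigen_mul_mem ha hb)]
    have s1 : f.ofConv a' • a = f.ofConv a • a' := congrArg Subtype.val
      (rankOne_swap (rankAtStalk_eigen hrk hu hχ hχp 1) (f.ofConv ∘ₗ (OortTate.eigenAug R A p χ 1).subtype) ⟨a, ha⟩ ⟨a', ha'⟩)
    have s2 : g.ofConv b' • b = g.ofConv b • b' := congrArg Subtype.val
      (rankOne_swap (rankAtStalk_eigen hrk hu hχ hχp n) (g.ofConv ∘ₗ (OortTate.eigenAug R A p χ n).subtype) ⟨b, hb⟩ ⟨b', hb'⟩)
    calc _ = c • ((f.ofConv a' • a) * (g.ofConv b' • b)) := by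
          simp only [smul_mul_assoc, mul_smul_comm, smul_smul]; congr 1; ring
      _ = _ := by rw [s1, s2]; simp only [smul_mul_assoc, mul_smul_comm, smul_smul]; congr 1; ring
  refine sub_eq_zero.mp (rankOne_faithful (rankAtStalk_eigen hrk hu hχ hχp (n + 1)) fun z => ?_)
  apply Subtype.ext
  rw [Submodule.coe_smul, ZeroMemClass.coe_zero]
  have hz : (z : A) ∈ OortTate.eigenAug R A p χ 1 * OortTate.eigenAug R A p χ n := by
    rw [← eigen_one_pow hrk hu hχ hχp hn (by omega), ← pow_succ', eigen_one_pow hrk hu hχ hχp (by omega) hn']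
    exact z.2
  refine Submodule.mul_induction_on hz (fun a' ha' b' hb' => ?_) (fun x y hx hy => by rw [smul_add, hx, hy, add_zero])
  rw [sub_smul, key ha' hb', sub_self]

end Groth.Agent.OT
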