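import Mathlib
import Groth.Agent.OT.Pairing

/-!
# The Cartier pairing of a group scheme of order `p`
-/

set_option autoImplicit false

universe u

open TensorProduct WithConv

namespace Groth.Agent.OT

variable {R : Type u} [CommRing R] {A : Type u} [CommRing A] [HopfAlgebra R A] [Coalgebra.IsCocomm R A]
  [Module.Finite R A] [Module.Projective R A]

/-- `A ⊗ D` as endomorphisms. -/
noncomputable def opMap : A ⊗[R] CartDual.D R A →ₗ[R] WithConv (A →ₗ[R] A) :=
  TensorProduct.lift (LinearMap.mk₂ R op
    (fun a a' ξ => WithConv.ext (LinearMap.ext fun x => by simp [op, smul_add]))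
    (fun c a ξ => WithConv.ext (LinearMap.ext fun x => by simp [op, smul_comm c]))
    (fun a ξ ξ' => WithConv.ext (LinearMap.ext fun x => by simp [op, add_smul]))
    (fun c a ξ => WithConv.ext (LinearMap.ext fun x => by simp [op, mul_smul])))

theorem opMap_tmul (a : A) (ξ : CartDual.D R A) : opMap (a ⊗ₜ ξ) = op a ξ := rfl

theorem opMap_mul (z w : A ⊗[R] CartDual.D R A) : opMap (z * w) = opMap z * opMap w := by
  let _ : Semiring (A ⊗[R] CartDual.D R A) := inferInstance
  induction z using TensorProduct.induction_on with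
  | zero => simp
  | tmul a ξ =>
    induction w using TensorProduct.induction_on with
    | zero => simp
    | tmul b η => rw [Algebra.TensorProduct.tmul_mul_tmul, opMap_tmul, opMap_tmul, opMap_tmul, op_mul]
    | add x y hx hy => rw [mul_add, map_add, map_add, hx, hy, mul_add]
  | add x y hx hy => rw [add_mul, map_add, map_add, hx, hy, add_mul]

theorem opMap_one : opMap (1 : A ⊗[R] CartDual.D R A) = 1 := by
  rw [Algebra.TensorProduct.one_def, opMap_tmul]
  refine WithConv.ext (LinearMap.ext fun x => ?_)
  simp [op, LinearMap.convOne_def, Algebra.algebraMap_eq_smul_one]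

/-- `A ⊗ D` as endomorphisms, as an algebra map. -/
noncomputable def opHom : A ⊗[R] CartDual.D R A →ₐ[R] WithConv (A →ₗ[R] A) :=
  AlgHom.ofLinearMap opMap opMap_one opMap_mul

theorem opMap_injective : Function.Injective (opMap (R := R) (A := A)) := by
  obtain ⟨n, π, s, -, -, hπs⟩ := Module.Finite.exists_comp_eq_id_of_projective R A
  let e : Fin n → A := fun i => π (Pi.single i 1)
  let d : Fin n → CartDual.D R A := fun i => toConv (LinearMap.proj i ∘ₗ s)
  have hx : ∀ x : A, ∑ i, s x i • e i = x := fun x => by
    conv_rhs => rw [← LinearMap.id_apply (R := R) x, ← hπs, LinearMap.comp_apply, pi_eq_sum_univ' (s x), map_sum]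
    simp [e]
  have hleft : ∀ z : A ⊗[R] CartDual.D R A, ∑ i, (opMap z).ofConv (e i) ⊗ₜ[R] d i = z := by
    intro z
    induction z using TensorProduct.induction_on with
    | zero => simp
    | tmul a f =>
      have hf : ∑ i, f.ofConv (e i) • d i = f := by
        apply (CartDual.toDual R A).injective
        refine LinearMap.ext fun x => ?_
        rw [map_sum]
        simp only [CartDual.toDual_apply, LinearMap.sum_apply, map_smul, LinearMap.smul_apply, d, ofConv_toConv,
          LinearMap.comp_apply, LinearMap.proj_apply, smul_eq_mul]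
        conv_rhs => rw [← hx x, map_sum]
        simp [mul_comm]
      conv_rhs => rw [← hf, TensorProduct.tmul_sum]
      exact Finset.sum_congr rfl fun i _ => by rw [opMap_tmul, op_apply, TensorProduct.smul_tmul]
    | add a b ha hb => simp only [map_add, WithConv.ofConv_add, LinearMap.add_apply, TensorProduct.add_tmul, Finset.sum_add_distrib, ha, hb]
  intro a b h
  rw [← hleft a, ← hleft b, h]

theorem opMap_apply (z : A ⊗[R] CartDual.D R A) (x : A) :
    (opMap z).ofConv x = TensorProduct.rid R A
      (LinearMap.lTensor A ((Module.Dual.eval R A x) ∘ₗ (CartDual.toDual R A).toLinearMap) z) := by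
  induction z using TensorProduct.induction_on with
  | zero => simp
  | tmul a f => simp [opMap_tmul, op_apply]
  | add a b ha hb => simp only [map_add, WithConv.ofConv_add, LinearMap.add_apply, ha, hb]

variable {p : ℕ} [Fact p.Prime] {u : R} {χ : (ZMod p)ˣ →* Rˣ} (hu : u * ((p - 1 : ℕ) : R) = 1)
  (hrk : ∀ q : PrimeSpectrum R, Module.rankAtStalk A q = p)
  (hχ : ∀ m : (ZMod p)ˣ, m ≠ 1 → IsUnit ((χ m : R) - 1))
  (hχp : ∀ m : (ZMod p)ˣ, ((χ m : Rˣ) : R) - (((m : ZMod p).val : ℕ) : R) ∈ Ideal.span ({(p : R)} : Set R))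

include hu hrk hχ hχp in
theorem cartier_span (δ : A ⊗[R] CartDual.D R A)
    (hδ : ∀ a : A, TensorProduct.rid R A
      (LinearMap.lTensor A ((Module.Dual.eval R A a) ∘ₗ (CartDual.toDual R A).toLinearMap) δ) = a)
    (ϕ : MonoidAlgebra R (Multiplicative (ZMod p)) →ₐ[R] A ⊗[R] CartDual.D R A)
    (hϕ : ϕ (OortTate.muT R p) = δ) :
    Submodule.span R {ϕ (OortTate.ygen R p u χ 1)} =
        LinearMap.range (TensorProduct.map (OortTate.eigenAug R A p χ 1).subtype
          (OortTate.eigenAug R (CartDual.D R A) p χ 1).subtype) ∧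
      ∀ r : R, r • ϕ (OortTate.ygen R p u χ 1) = 0 → r = 0 := by
  classical
  have hp := pow_eq_one_of_rank_prime p hrk (A := A)
  haveI := eigen_finite hp hu (χ := χ) 1
  haveI := eigen_projective hp hu (χ := χ) 1
  have h1 := rankAtStalk_eigen hrk hu hχ hχp 1
  have hid : opMap δ = toConv (AlgHom.id R A).toLinearMap :=
    WithConv.ext (LinearMap.ext fun x => (opMap_apply δ x).trans (hδ x))
  have hψ : opHom.comp ϕ = psi hp := by
    refine MonoidAlgebra.algHom_ext (fun g => ?_) (Subsingleton.elim _ _)
    obtain ⟨a, rfl⟩ : ∃ a, Multiplicative.ofAdd a = g := ⟨g.toAdd, rfl⟩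
    have hT : MonoidAlgebra.single (Multiplicative.ofAdd a) (1 : R) = (OortTate.muT R p) ^ a.val := by
      simp [OortTate.muT, MonoidAlgebra.of_apply, MonoidAlgebra.single_pow, ← ofAdd_nsmul]
    have h1 : opHom (ϕ (OortTate.muT R p)) = toConv (AlgHom.id R A).toLinearMap := by rw [hϕ]; exact hid
    conv_lhs => rw [hT, map_pow (opHom.comp ϕ), AlgHom.comp_apply, h1]
    rw [psi, MonoidAlgebra.lift_single, one_smul]
    rfl
  have hy : opMap (ϕ (OortTate.ygen R p u χ 1)) = toConv (eproj A u χ 1) :=
    (DFunLike.congr_fun hψ _).trans (psi_ygen hp 1)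
  constructor
  · refine le_antisymm ?_ ?_
    · rw [Submodule.span_singleton_le_iff_mem]
      obtain ⟨n, a, f, hc⟩ := exists_partition h1
      choose g hg using fun k =>
        (Groth.Agent.S18471.result p R u hu χ hχ A hp 1).2 (f k)
      refine ⟨∑ k, a k ⊗ₜ g k, opMap_injective ?_⟩
      rw [hy, map_sum, map_sum]
      rw [Finset.sum_congr rfl fun k _ => show opMap (TensorProduct.map (OortTate.eigenAug R A p χ 1).subtype
          (OortTate.eigenAug R (CartDual.D R A) p χ 1).subtype (a k ⊗ₜ g k)) = f k (a k) • toConv (eproj A u χ 1) by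
        rw [TensorProduct.map_tmul, opMap_tmul, Submodule.subtype_apply, Submodule.subtype_apply,
          op_eigen hp hu hrk hχ hχp (a k).2 (g k).2, ← hg k]
        rfl, ← Finset.sum_smul, hc, one_smul]
    · rintro _ ⟨z, rfl⟩
      induction z using TensorProduct.induction_on with
      | zero => rw [map_zero]; exact zero_mem _
      | tmul a f =>
        rw [Submodule.mem_span_singleton]
        refine ⟨(f : CartDual.D R A).ofConv a, opMap_injective ?_⟩
        rw [map_smul, hy, TensorProduct.map_tmul, opMap_tmul, Submodule.subtype_apply, Submodule.subtype_apply,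
          op_eigen hp hu hrk hχ hχp a.2 f.2]
      | add x y hx hy => rw [map_add]; exact add_mem hx hy
  · intro r hr
    refine rankOne_faithful h1 fun z => ?_
    have h := congrArg (fun w => (opMap w).ofConv (z : A)) hr
    simp only [map_smul, hy, WithConv.ofConv_smul, LinearMap.smul_apply, ofConv_toConv, map_zero,
      WithConv.ofConv_zero, LinearMap.zero_apply] at h
    rw [eproj_eigen_self hu z.2] at h
    exact Subtype.ext h

end Groth.Agent.OT
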