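import Mathlib
import Groth.Agent.OT.Pairing

/-!
# Injectivity of the classification of group schemes of order `p`
-/

set_option autoImplicit false

universe u

open TensorProduct WithConv

namespace Groth.Agent.OT

variable {R : Type u} [CommRing R] {p : ℕ} [Fact p.Prime] {u : R} {χ : (ZMod p)ˣ →* Rˣ}
  (hu : u * ((p - 1 : ℕ) : R) = 1) (hχ : ∀ m : (ZMod p)ˣ, m ≠ 1 → IsUnit ((χ m : R) - 1))
  (hχp : ∀ m : (ZMod p)ˣ, ((χ m : Rˣ) : R) - (((m : ZMod p).val : ℕ) : R) ∈ Ideal.span ({(p : R)} : Set R))
  {A : Type u} [CommRing A] [HopfAlgebra R A] [Coalgebra.IsCocomm R A] [Module.Finite R A] [Module.Projective R A]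
  (hrk : ∀ q : PrimeSpectrum R, Module.rankAtStalk A q = p)
  {A' : Type u} [CommRing A'] [HopfAlgebra R A'] [Coalgebra.IsCocomm R A'] [Module.Finite R A'] [Module.Projective R A']
  (hrk' : ∀ q : PrimeSpectrum R, Module.rankAtStalk A' q = p)

/-- Two tensors with the same values on pairs of functionals are equal. -/
theorem tensor_ext {M : Type u} [AddCommGroup M] [Module R M] [Module.Finite R M] [Module.Projective R M]
    {t t' : M ⊗[R] M}
    (h : ∀ f g : M →ₗ[R] R, LinearMap.mul' R R (TensorProduct.map f g t) = LinearMap.mul' R R (TensorProduct.map f g t')) :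
    t = t' := by
  obtain ⟨n, π, s, -, -, hπs⟩ := Module.Finite.exists_comp_eq_id_of_projective R M
  have h2 : TensorProduct.map s s t = TensorProduct.map s s t' := by
    apply ((Pi.basisFun R (Fin n)).tensorProduct (Pi.basisFun R (Fin n))).repr.injective
    refine Finsupp.ext fun ⟨i, j⟩ => ?_
    have he : ∀ t : M ⊗[R] M, ((Pi.basisFun R (Fin n)).tensorProduct (Pi.basisFun R (Fin n))).repr
        (TensorProduct.map s s t) (i, j) =
        LinearMap.mul' R R (TensorProduct.map (LinearMap.proj i ∘ₗ s) (LinearMap.proj j ∘ₗ s) t) := by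
      intro t
      induction t using TensorProduct.induction_on with
      | zero => simp
      | tmul a b => simp [mul_comm]
      | add a b ha hb => simp only [map_add, Finsupp.add_apply, ha, hb]
    rw [he, he, h]
  have h3 := congrArg (TensorProduct.map π π) h2
  rwa [← LinearMap.comp_apply, ← TensorProduct.map_comp, hπs, TensorProduct.map_id, ← LinearMap.comp_apply,
    ← TensorProduct.map_comp, hπs, TensorProduct.map_id] at h3

include hu hχ hrk in
omit [Coalgebra.IsCocomm R A] in
theorem eq_top_of_eigen_le (N : Submodule R A) (h1 : (1 : A) ∈ N)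
    (h : ∀ t, 1 ≤ t → t < p → OortTate.eigenAug R A p χ t ≤ N) : N = ⊤ := by
  have hp := pow_eq_one_of_rank_prime p hrk (A := A)
  have hp1 : 1 < p := (Fact.out : p.Prime).one_lt
  refine eq_top_iff.mpr fun z _ => ?_
  rw [← sub_add_cancel z (algebraMap R A (Bialgebra.counitAlgHom R A z)), Algebra.algebraMap_eq_smul_one]
  refine add_mem ?_ (N.smul_mem _ h1)
  rw [← Algebra.algebraMap_eq_smul_one, ← sum_proj R A (p := p) hu hχ (z - algebraMap R A _)]
  refine Submodule.sum_mem _ fun i _ => ?_
  have hm := proj_mem_eigen R A hp (u := u) (χ := χ) (i : ℕ) (sub_counit_mem A z)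
  rcases Nat.eq_zero_or_pos (i : ℕ) with h0 | h0
  · exact h (p - 1) (by omega) (by omega) ((eigen_congr (j := p - 1) (by simp [h0])).le hm)
  · exact h _ h0 (by omega) hm

omit [Coalgebra.IsCocomm R A] [Coalgebra.IsCocomm R A'] in
include hu hχ hχp hrk in
theorem exists_algHom (θ : OortTate.eigenAug R A p χ 1 →ₗ[R] OortTate.eigenAug R A' p χ 1)
    (hθ : ∀ (f : Fin p → OortTate.eigenAug R A p χ 1) (g : OortTate.eigenAug R A p χ 1),
      (g : A) = ∏ i, (f i : A) → ((θ g : OortTate.eigenAug R A' p χ 1) : A') = ∏ i, ((θ (f i)) : A')) :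
    ∃ F : A →ₐ[R] A', ∀ x : OortTate.eigenAug R A p χ 1, F (x : A) = (θ x : A') := by
  set L := TensorAlgebra.lift R (OortTate.eigenAug R A p χ 1).subtype
  set L' := TensorAlgebra.lift R ((OortTate.eigenAug R A' p χ 1).subtype ∘ₗ θ)
  have hker : ∀ t, L t = 0 → L' t = 0 := by
    intro t ht
    have h : t ∈ RingHom.ker L := ht
    rw [ker_lift hrk hu hχ hχp] at h
    clear ht
    induction h using Submodule.span_induction with
    | mem x hx =>
      obtain ⟨f, g, hg, rfl⟩ := hx
      rw [map_sub, map_list_prod, List.map_ofFn, TensorAlgebra.lift_ι_apply, LinearMap.comp_apply,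
        Submodule.subtype_apply, hθ f g hg, List.prod_ofFn, sub_eq_zero]
      simp [L']
    | zero => exact map_zero _
    | add _ _ _ _ h1 h2 => rw [map_add, h1, h2, add_zero]
    | smul c _ _ h1 => rw [smul_eq_mul, map_mul, h1, mul_zero]
  have hsurj := lift_surjective hrk hu hχ hχp (A := A)
  have hF : ∀ t, L' (Function.surjInv hsurj (L t)) = L' t := fun t => by
    rw [← sub_eq_zero, ← map_sub]
    exact hker _ (by rw [map_sub, Function.surjInv_eq hsurj, sub_self])
  refine ⟨{ toFun := fun a => L' (Function.surjInv hsurj a), map_one' := ?_, map_mul' := fun a b => ?_,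
            map_zero' := ?_, map_add' := fun a b => ?_, commutes' := fun r => ?_ }, fun x => ?_⟩
  · rw [← map_one L, hF, map_one]
  · obtain ⟨s, rfl⟩ := hsurj a
    obtain ⟨t, rfl⟩ := hsurj b
    rw [← map_mul L, hF, hF, hF, map_mul]
  · rw [← map_zero L, hF, map_zero]
  · obtain ⟨s, rfl⟩ := hsurj a
    obtain ⟨t, rfl⟩ := hsurj b
    rw [← map_add L, hF, hF, hF, map_add]
  · show L' (Function.surjInv hsurj (algebraMap R A r)) = algebraMap R A' r
    rw [← L.commutes r, hF, L'.commutes]
  · show L' (Function.surjInv hsurj (x : A)) = _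
    conv_lhs => rw [show (x : A) = L (TensorAlgebra.ι R x) from (by simp [L]), hF]
    exact TensorAlgebra.lift_ι_apply _ x

/-- transpose -/
noncomputable def transp (F : A →ₐ[R] A') (ζ : CartDual.D R A') : CartDual.D R A := toConv (ζ.ofConv ∘ₗ F.toLinearMap)

theorem transp_apply (F : A →ₐ[R] A') (ζ : CartDual.D R A') (z : A) : (transp F ζ).ofConv z = ζ.ofConv (F z) := rfl

include hu hχ hχp hrk hrk' in
theorem exists_bialgEquiv
    (θ : OortTate.eigenAug R A p χ 1 ≃ₗ[R] OortTate.eigenAug R A' p χ 1)
    (hθ : ∀ (f : Fin p → OortTate.eigenAug R A p χ 1) (g : OortTate.eigenAug R A p χ 1),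
      (g : A) = ∏ i, (f i : A) → ((θ g : OortTate.eigenAug R A' p χ 1) : A') = ∏ i, ((θ (f i)) : A'))
    (hθD : ∀ (φ : Fin p → OortTate.eigenAug R (CartDual.D R A) p χ 1)
      (φ' : Fin p → OortTate.eigenAug R (CartDual.D R A') p χ 1)
      (ψ : OortTate.eigenAug R (CartDual.D R A) p χ 1) (ψ' : OortTate.eigenAug R (CartDual.D R A') p χ 1),
      (∀ i, ∀ x : OortTate.eigenAug R A p χ 1,
        CartDual.toDual R A (φ i : CartDual.D R A) (x : A) =
          CartDual.toDual R A' (φ' i : CartDual.D R A') ((θ x : OortTate.eigenAug R A' p χ 1) : A')) →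
      (ψ : CartDual.D R A) = ∏ i, (φ i : CartDual.D R A) →
      (ψ' : CartDual.D R A') = ∏ i, (φ' i : CartDual.D R A') →
      ∀ x : OortTate.eigenAug R A p χ 1,
        CartDual.toDual R A (ψ : CartDual.D R A) (x : A) =
          CartDual.toDual R A' (ψ' : CartDual.D R A') ((θ x : OortTate.eigenAug R A' p χ 1) : A')) :
    Nonempty (A ≃ₐc[R] A') := by
  classical
  have hp := pow_eq_one_of_rank_prime p hrk (A := A)
  have hp' := pow_eq_one_of_rank_prime p hrk' (A := A')
  have hp1 : 1 < p := (Fact.out : p.Prime).one_lt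
  obtain ⟨F, hF⟩ := exists_algHom hu hχ hχp hrk θ.toLinearMap hθ
  have hθs : ∀ (f : Fin p → OortTate.eigenAug R A' p χ 1) (g : OortTate.eigenAug R A' p χ 1),
      (g : A') = ∏ i, (f i : A') → ((θ.symm g : OortTate.eigenAug R A p χ 1) : A) = ∏ i, ((θ.symm (f i)) : A) := by
    intro f g hg
    have hmem : (∏ i, ((θ.symm (f i)) : A)) ∈ OortTate.eigenAug R A p χ 1 := by
      refine (eigen_congr (i := p) (j := 1) ?_).le (eigen_one_pow_le (by omega) ?_)
      · conv_lhs => rw [show p = 1 + (p - 1) by omega]
        simp [Nat.add_mod_right]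
      have hmem : ∀ n (f : Fin n → OortTate.eigenAug R A p χ 1),
          (∏ i, (f i : A)) ∈ (OortTate.eigenAug R A p χ 1) ^ n := by
        intro n
        induction n with
        | zero => intro f; rw [pow_zero, Fin.prod_univ_zero]; exact Submodule.mem_one.mpr ⟨1, map_one _⟩
        | succ n ih => intro f; rw [pow_succ', Fin.prod_univ_succ]; exact Submodule.mul_mem_mul (f 0).2 (ih _)
      exact hmem p _
    have h := hθ (fun i => θ.symm (f i)) ⟨_, hmem⟩ rfl
    simp only [LinearEquiv.apply_symm_apply] at h
    rw [show g = θ ⟨_, hmem⟩ from Subtype.ext (hg.trans h.symm), LinearEquiv.symm_apply_apply]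
  obtain ⟨F', hF'⟩ := exists_algHom hu hχ hχp hrk' θ.symm.toLinearMap hθs
  have h1 : F'.comp F = AlgHom.id R A := by
    refine AlgHom.ext fun z => ?_
    obtain ⟨t, rfl⟩ := lift_surjective hrk hu hχ hχp (A := A) z
    exact DFunLike.congr_fun (TensorAlgebra.hom_ext (f := (F'.comp F).comp
      (TensorAlgebra.lift R (OortTate.eigenAug R A p χ 1).subtype))
      (g := TensorAlgebra.lift R (OortTate.eigenAug R A p χ 1).subtype)
      (LinearMap.ext fun x => by
        simp only [LinearMap.comp_apply, AlgHom.toLinearMap_apply, AlgHom.comp_apply, TensorAlgebra.lift_ι_apply,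
          Submodule.subtype_apply, hF, LinearEquiv.coe_coe, hF', LinearEquiv.symm_apply_apply])) t
  have h2 : F.comp F' = AlgHom.id R A' := by
    refine AlgHom.ext fun z => ?_
    obtain ⟨t, rfl⟩ := lift_surjective hrk' hu hχ hχp (A := A') z
    exact DFunLike.congr_fun (TensorAlgebra.hom_ext (f := (F.comp F').comp
      (TensorAlgebra.lift R (OortTate.eigenAug R A' p χ 1).subtype))
      (g := TensorAlgebra.lift R (OortTate.eigenAug R A' p χ 1).subtype)
      (LinearMap.ext fun x => by
        simp only [LinearMap.comp_apply, AlgHom.toLinearMap_apply, AlgHom.comp_apply, TensorAlgebra.lift_ι_apply,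
          Submodule.subtype_apply, hF, LinearEquiv.coe_coe, hF', LinearEquiv.apply_symm_apply])) t
  -- compatibility with the counit and the eigenspaces
  have hε : (Bialgebra.counitAlgHom R A').comp F = Bialgebra.counitAlgHom R A := by
    refine AlgHom.ext fun z => ?_
    obtain ⟨t, rfl⟩ := lift_surjective hrk hu hχ hχp (A := A) z
    exact DFunLike.congr_fun (TensorAlgebra.hom_ext (f := ((Bialgebra.counitAlgHom R A').comp F).comp
      (TensorAlgebra.lift R (OortTate.eigenAug R A p χ 1).subtype))
      (g := (Bialgebra.counitAlgHom R A).comp (TensorAlgebra.lift R (OortTate.eigenAug R A p χ 1).subtype))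
      (LinearMap.ext fun x => by
        simp only [LinearMap.comp_apply, AlgHom.toLinearMap_apply, AlgHom.comp_apply, TensorAlgebra.lift_ι_apply,
          Submodule.subtype_apply, hF]
        exact (θ x).2.1.trans x.2.1.symm)) t
  have hFI : ∀ t, 1 ≤ t → t < p → ∀ z ∈ OortTate.eigenAug R A p χ t, F z ∈ OortTate.eigenAug R A' p χ t := by
    intro t ht htp z hz
    rw [← eigen_one_pow hrk hu hχ hχp ht htp] at hz
    refine eigen_one_pow_le ht ?_
    have hle : (OortTate.eigenAug R A p χ 1).map F.toLinearMap ≤ OortTate.eigenAug R A' p χ 1 := by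
      rintro _ ⟨x, hx, rfl⟩
      show F ((⟨x, hx⟩ : OortTate.eigenAug R A p χ 1) : A) ∈ _
      rw [hF]
      exact (θ _).2
    have hm : F z ∈ ((OortTate.eigenAug R A p χ 1) ^ t).map F.toLinearMap := ⟨z, hz, rfl⟩
    rw [Submodule.map_pow] at hm
    exact pow_le_pow_left' hle t hm
  have hFe : ∀ n, 1 ≤ n → n < p → ∀ z, F (eproj A u χ n z) = eproj A' u χ n (F z) := by
    intro n hn hnp
    suffices h : (⊤ : Submodule R A) ≤ LinearMap.eqLocus (F.toLinearMap ∘ₗ eproj A u χ n) (eproj A' u χ n ∘ₗ F.toLinearMap) from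
      fun z => h Submodule.mem_top
    refine (eq_top_of_eigen_le hu hχ hrk _ ?_ fun t ht htp z hz => ?_).ge
    · show F (eproj A u χ n 1) = eproj A' u χ n (F 1)
      have h0 : ∀ {B : Type u} [CommRing B] [HopfAlgebra R B], eproj B u χ n 1 = 0 := fun {B} _ _ => by
        rw [eproj_apply]; simp
      rw [map_one F, h0, h0, map_zero]
    · show F (eproj A u χ n z) = eproj A' u χ n (F z)
      by_cases hc : t % (p - 1) = n % (p - 1)
      · rw [eproj_eigen_self hu ((eigen_congr hc).le hz), eproj_eigen_self hu ((eigen_congr hc).le (hFI t ht htp z hz))]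
      · have hkill : ∀ {B : Type u} [CommRing B] [HopfAlgebra R B] {w : B}, w ∈ OortTate.eigenAug R B p χ t →
            eproj B u χ n w = 0 := by
          intro B _ _ w hw
          rw [eproj_apply, show Bialgebra.counitAlgHom R B w = 0 from hw.1, map_zero, sub_zero]
          have hn' : OortTate.proj R B p u χ n = OortTate.proj R B p u χ (n % (p - 1)) := by
            simp only [OortTate.proj]
            refine congrArg _ (Finset.sum_congr rfl fun m _ => ?_)
            congr 1
            rw [← Nat.mod_add_div n (p - 1), pow_add, pow_mul, chi_pow_card, one_pow, mul_one]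
            simp
          rw [hn']
          exact proj_eigen_ne R B hχ (Nat.mod_lt _ (by omega)) (Nat.mod_lt _ (by omega)) (fun h => hc h.symm)
            ((eigen_congr (Nat.mod_mod t (p - 1)).symm).le hw)
        rw [hkill hz, hkill (hFI t ht htp z hz), map_zero]
  -- the transpose on the first eigenspace
  have hS := Groth.Agent.S18471.result p R u hu χ hχ A hp 1
  have hG : ∀ f : OortTate.eigenAug R (CartDual.D R A') p χ 1,
      transp F (f : CartDual.D R A') ∈ OortTate.eigenAug R (CartDual.D R A) p χ 1 := by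
    intro f
    obtain ⟨g, hg⟩ := hS.2 (((f : CartDual.D R A').ofConv ∘ₗ F.toLinearMap) ∘ₗ (OortTate.eigenAug R A p χ 1).subtype)
    have : transp F (f : CartDual.D R A') = (g : CartDual.D R A) := by
      refine WithConv.ext (LinearMap.ext fun z => ?_)
      rw [transp_apply, dual_eigen_apply hp' hu f.2, ← hFe 1 le_rfl hp1, dual_eigen_apply hp hu g.2 z]
      exact (LinearMap.congr_fun hg ⟨_, eproj_mem hp 1 z⟩).symm
    rw [this]
    exact g.2
  have hone : transp F (1 : CartDual.D R A') = 1 :=
    WithConv.ext (LinearMap.ext fun z => DFunLike.congr_fun hε z)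
  have hprod : ∀ n, n ≤ p → ∀ f : Fin n → OortTate.eigenAug R (CartDual.D R A') p χ 1,
      transp F (∏ i, (f i : CartDual.D R A')) = ∏ i, transp F (f i : CartDual.D R A') := by
    intro n
    induction n with
    | zero => intro _ f; rw [Fin.prod_univ_zero, Fin.prod_univ_zero, hone]
    | succ n ih =>
      intro hnp f
      have hmemD : ∀ {B : Type u} [CommRing B] [HopfAlgebra R B] (k : ℕ) (f : Fin k → B),
          1 ≤ k → (∀ i, f i ∈ OortTate.eigenAug R B p χ 1) → ∏ i, f i ∈ OortTate.eigenAug R B p χ k := by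
        intro B _ _ k
        induction k with
        | zero => intro f h; omega
        | succ k ihk =>
          intro f _ hf
          rcases Nat.eq_zero_or_pos k with rfl | hk
          · simpa using hf 0
          · rw [Fin.prod_univ_succ]
            exact (congrArg (OortTate.eigenAug R B p χ) (add_comm 1 k)).le
              (eigen_mul_mem (hf 0) (ihk _ hk fun i => hf _))
      rcases Nat.eq_zero_or_pos n with rfl | hn
      · simp
      have hrest := ih (by omega) fun i => f i.succ
      have hg' : (∏ i : Fin n, (f i.succ : CartDual.D R A')) ∈ OortTate.eigenAug R (CartDual.D R A') p χ n :=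
        hmemD n _ hn fun i => (f i.succ).2
      have hg : transp F (∏ i : Fin n, (f i.succ : CartDual.D R A')) ∈ OortTate.eigenAug R (CartDual.D R A) p χ n := by
        rw [hrest]; exact hmemD n _ hn fun i => hG _
      rcases (show n + 1 < p ∨ n + 1 = p by omega) with h | h
      · rw [Fin.prod_univ_succ, Fin.prod_univ_succ, ← hrest]
        refine WithConv.ext (LinearMap.ext fun z => ?_)
        have hl := eigen_mul_mem (hG (f 0)) hg
        have hl' := eigen_mul_mem (f 0).2 hg'
        rw [add_comm 1 n] at hl hl'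
        rw [transp_apply, dual_eigen_apply hp' hu hl', ← hFe (n + 1) (by omega) h, dual_eigen_apply hp hu hl z]
        have hz := eproj_mem hp (u := u) (χ := χ) (n + 1) z
        rw [← eigen_one_pow hrk hu hχ hχp (by omega) h, pow_succ', eigen_one_pow hrk hu hχ hχp hn (by omega)] at hz
        obtain ⟨c, hc⟩ := exists_ygen_mul hu hχ hχp n
        refine Submodule.mul_induction_on hz (fun a ha b hb => ?_) (fun x y hx hy => by simp only [map_add, hx, hy])
        rw [map_mul, pairing_mul hp' hu hrk' hχ hχp hn h hc (f 0).2 hg' (hFI 1 le_rfl hp1 a ha) (hFI n hn (by omega) b hb),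
          pairing_mul hp hu hrk hχ hχp hn h hc (hG _) hg ha hb, transp_apply, transp_apply]
      · subst h
        have hc1 : (n + 1) % (n + 1 - 1) = 1 % (n + 1 - 1) := by simp
        have hψ' : (∏ i, (f i : CartDual.D R A')) ∈ OortTate.eigenAug R (CartDual.D R A') (n + 1) χ 1 :=
          (eigen_congr hc1).le (hmemD (n + 1) _ (by omega) fun i => (f i).2)
        have hψ : (∏ i, transp F (f i : CartDual.D R A')) ∈ OortTate.eigenAug R (CartDual.D R A) (n + 1) χ 1 :=
          (eigen_congr hc1).le (hmemD (n + 1) _ (by omega) fun i => hG _)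
        have h := hθD (fun i => ⟨_, hG (f i)⟩) f ⟨_, hψ⟩ ⟨_, hψ'⟩
          (fun i x => congrArg (f i : CartDual.D R A').ofConv (hF x)) rfl rfl
        have := @hS.1 ⟨_, hG ⟨_, hψ'⟩⟩ ⟨_, hψ⟩ (LinearMap.ext fun x =>
          (congrArg (∏ i, (f i : CartDual.D R A')).ofConv (hF x)).trans (h x).symm)
        exact congrArg Subtype.val this
  -- spanning
  have hrkD' := rank_dual hrk' (A := A')
  have hall : ∀ f : OortTate.eigenAug R (CartDual.D R A') p χ 1, ∀ η : CartDual.D R A',
      transp F ((f : CartDual.D R A') * η) = transp F (f : CartDual.D R A') * transp F η := by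
    intro f
    let T : CartDual.D R A' →ₗ[R] CartDual.D R A :=
      { toFun := fun ζ => transp F ζ, map_add' := fun _ _ => rfl, map_smul' := fun _ _ => rfl }
    suffices h : (⊤ : Submodule R (CartDual.D R A')) ≤
        LinearMap.eqLocus (T ∘ₗ LinearMap.mulLeft R (f : CartDual.D R A'))
          (LinearMap.mulLeft R (transp F (f : CartDual.D R A')) ∘ₗ T) from fun η => h Submodule.mem_top
    refine (eq_top_of_eigen_le hu hχ hrkD' _ ?_ fun t ht htp => ?_).ge
    · show transp F ((f : CartDual.D R A') * 1) = transp F (f : CartDual.D R A') * transp F 1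
      rw [mul_one, hone, mul_one]
    · rw [← eigen_one_pow hrkD' hu hχ hχp ht htp, Submodule.pow_eq_span_pow_set, Submodule.span_le]
      intro x hx
      obtain ⟨g, rfl⟩ := Set.mem_pow.mp hx
      show transp F ((f : CartDual.D R A') * _) = transp F (f : CartDual.D R A') * transp F _
      rw [List.prod_ofFn]
      have h1 := hprod (t + 1) (by omega) (Fin.cons f fun i => ⟨(g i : CartDual.D R A'), (g i).2⟩)
      have h2 := hprod t (by omega) fun i => ⟨(g i : CartDual.D R A'), (g i).2⟩
      rw [Fin.prod_univ_succ, Fin.prod_univ_succ] at h1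
      simp only [Fin.cons_zero, Fin.cons_succ] at h1
      rw [h1, h2]
  have hmul : ∀ ζ η : CartDual.D R A', transp F (ζ * η) = transp F ζ * transp F η := by
    intro ζ
    obtain ⟨t, rfl⟩ := lift_surjective hrkD' hu hχ hχp (A := CartDual.D R A') ζ
    induction t using TensorAlgebra.induction with
    | algebraMap r =>
      intro η
      rw [AlgHom.commutes, ← Algebra.smul_def, Algebra.algebraMap_eq_smul_one,
        show transp F (r • (1 : CartDual.D R A')) = r • transp F 1 from rfl, hone, smul_one_mul]
      rfl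
    | ι v => intro η; rw [TensorAlgebra.lift_ι_apply]; exact hall v η
    | mul a b ha hb => intro η; rw [map_mul, mul_assoc, ha, hb, ha, mul_assoc]
    | add a b ha hb =>
      intro η
      rw [map_add, add_mul, show ∀ x y, transp F (x + y) = transp F x + transp F y from fun _ _ => rfl, ha, hb,
        show ∀ x y, transp F (x + y) = transp F x + transp F y from fun _ _ => rfl, add_mul]
  refine ⟨BialgEquiv.ofAlgEquiv (AlgEquiv.ofAlgHom F F' h2 h1) hε (AlgHom.ext fun z => ?_)⟩
  refine tensor_ext fun f g => ?_
  have h := congrArg (fun w : CartDual.D R A => w.ofConv z) (hmul (toConv f) (toConv g))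
  simp only [transp_apply, LinearMap.convMul_apply] at h
  refine Eq.trans ?_ h.symm
  show LinearMap.mul' R R (TensorProduct.map f g (Algebra.TensorProduct.map F F (Coalgebra.comul (R := R) z))) = _
  induction Coalgebra.comul (R := R) z using TensorProduct.induction_on with
  | zero => simp
  | tmul a b => simp [transp]
  | add a b ha hb => simp only [map_add, ha, hb]

end Groth.Agent.OT
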