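import Mathlib
import Groth.Agent.OT.TensorPres

/-!
# Generators of rank one eigenspaces
-/

set_option autoImplicit false

universe u

namespace Groth.Agent.OT

theorem exists_gen {R : Type u} [CommRing R] {p : ℕ} [Fact p.Prime] {u : R} {χ : (ZMod p)ˣ →* Rˣ}
    (hu : u * ((p - 1 : ℕ) : R) = 1) (hχ : ∀ m : (ZMod p)ˣ, m ≠ 1 → IsUnit ((χ m : R) - 1))
    (hχp : ∀ m : (ZMod p)ˣ, ((χ m : Rˣ) : R) - (((m : ZMod p).val : ℕ) : R) ∈ Ideal.span ({(p : R)} : Set R))
    {B : Type u} [CommRing B] [HopfAlgebra R B] [Module.Finite R B] [Module.Projective R B]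
    (hB : ∀ q : PrimeSpectrum R, Module.rankAtStalk B q = p) {b : B}
    (hb : Submodule.span R {b} = OortTate.eigenAug R B p χ 1) :
    ∃ e : R ≃ₗ[R] OortTate.eigenAug R B p χ 1, ∀ r, (e r : B) = r • b := by
  haveI := eigen_finite (pow_eq_one_of_rank_prime p hB) hu (χ := χ) 1
  haveI := eigen_projective (pow_eq_one_of_rank_prime p hB) hu (χ := χ) 1
  let l := LinearMap.toSpanSingleton R (OortTate.eigenAug R B p χ 1) ⟨b, hb ▸ Submodule.mem_span_singleton_self b⟩
  refine ⟨LinearEquiv.ofBijective l ⟨?_, fun z => ?_⟩, fun r => rfl⟩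
  · rw [← LinearMap.ker_eq_bot, Submodule.eq_bot_iff]
    intro r hr
    refine rankOne_faithful (rankAtStalk_eigen hB hu hχ hχp 1) fun z => Subtype.ext ?_
    have hz : (z : B) ∈ Submodule.span R {b} := hb.ge z.2
    obtain ⟨s, hs⟩ := Submodule.mem_span_singleton.mp hz
    have hr' : r • b = 0 := congrArg Subtype.val hr
    rw [Submodule.coe_smul, ← hs, smul_comm, hr', smul_zero]
    rfl
  · have hz : (z : B) ∈ Submodule.span R {b} := hb.ge z.2
    obtain ⟨s, hs⟩ := Submodule.mem_span_singleton.mp hz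
    exact ⟨s, Subtype.ext hs⟩

end Groth.Agent.OT
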