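import Mathlib

/-!
# Hopf algebras whose augmentation ideal is free of rank one
-/

universe u v

open scoped TensorProduct

namespace Groth.Agent.OT

variable {R : Type u} [CommRing R] {A : Type v} [CommRing A] [HopfAlgebra R A] {x : A}
  (hx : Bialgebra.counitAlgHom R A x = 0)
  (hgen : ∀ f : A, Bialgebra.counitAlgHom R A f = 0 → ∃ r : R, f = r • x)
  (hfree : ∀ r : R, r • x = 0 → r = 0)

local notation "ε" => Bialgebra.counitAlgHom R A

include hgen in
theorem exists_coord (f : A) : ∃ r : R, f = algebraMap R A (ε f) + r • x := by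
  obtain ⟨r, hr⟩ := hgen (f - algebraMap R A (ε f)) (by rw [map_sub, AlgHom.commutes]; simp)
  exact ⟨r, by rw [← hr]; ring⟩

include hfree in
theorem eq_of_smul_eq {r s : R} (h : r • x = s • x) : r = s :=
  sub_eq_zero.1 (hfree _ (by rw [sub_smul, h, sub_self]))

include hx hgen hfree in
theorem choose_eq {f : A} {c r : R} (h : f = algebraMap R A c + r • x) :
    (exists_coord hgen f).choose = r := by
  have hf := (exists_coord hgen f).choose_spec
  have hc : (ε) f = c := by
    have := congrArg (ε) h
    rwa [map_add, map_smul, AlgHom.commutes, hx, smul_zero, add_zero] at this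
  apply eq_of_smul_eq hfree
  exact add_left_cancel ((congrArg (fun z => algebraMap R A z + (exists_coord hgen f).choose • x) hc).symm.trans
    (hf.symm.trans h))

/-- coefficient of `x` -/
noncomputable def coord : A →ₗ[R] R where
  toFun f := (exists_coord hgen f).choose
  map_add' f g := choose_eq hx hgen hfree (c := (ε) f + (ε) g) (by
    nth_rw 1 [(exists_coord hgen f).choose_spec, (exists_coord hgen g).choose_spec]
    rw [map_add, add_smul]; abel)
  map_smul' c f := choose_eq hx hgen hfree (c := c * (ε) f) (by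
    nth_rw 1 [(exists_coord hgen f).choose_spec]
    rw [smul_add, RingHom.id_apply, smul_eq_mul, mul_smul, map_mul, Algebra.smul_def c (algebraMap R A _)])

theorem eq_coord (f : A) : f = algebraMap R A (ε f) + coord hx hgen hfree f • x :=
  (exists_coord hgen f).choose_spec

theorem coord_x : coord hx hgen hfree x = 1 := eq_of_smul_eq hfree (by
  have h := eq_coord hx hgen hfree x
  rw [hx, map_zero, zero_add] at h
  rw [one_smul, ← h])

theorem coord_one : coord hx hgen hfree 1 = 0 := hfree _ (by
  have h := eq_coord hx hgen hfree 1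
  rw [map_one, map_one] at h
  exact (add_eq_left.1 h.symm))

include hx hgen hfree in
theorem tensor_decomp (z : A ⊗[R] A) :
    ∃ p q r s : R, z = algebraMap R (A ⊗[R] A) p + q • (x ⊗ₜ[R] 1) + r • (1 ⊗ₜ[R] x) + s • (x ⊗ₜ[R] x) := by
  induction z using TensorProduct.induction_on with
  | zero => exact ⟨0, 0, 0, 0, by simp⟩
  | tmul f g =>
    refine ⟨ε f * ε g, coord hx hgen hfree f * ε g, ε f * coord hx hgen hfree g,
      coord hx hgen hfree f * coord hx hgen hfree g, ?_⟩
    nth_rw 1 [eq_coord hx hgen hfree f, eq_coord hx hgen hfree g]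
    simp only [Algebra.algebraMap_eq_smul_one, TensorProduct.add_tmul, TensorProduct.tmul_add,
      ← TensorProduct.smul_tmul', TensorProduct.tmul_smul, Algebra.TensorProduct.one_def, smul_smul, smul_add]
    module
  | add z w hz hw =>
    obtain ⟨p, q, r, s, rfl⟩ := hz
    obtain ⟨p', q', r', s', rfl⟩ := hw
    exact ⟨p + p', q + q', r + r', s + s', by simp only [map_add, add_smul]; abel⟩

include hx hgen hfree in
theorem coeff_eq {b c : R} (h : b • (x ⊗ₜ[R] x) = c • (x ⊗ₜ[R] x)) : b = c := by
  have := congrArg (TensorProduct.lift ((LinearMap.mul R R).compl₁₂ (coord hx hgen hfree) (coord hx hgen hfree))) h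
  simpa [coord_x hx hgen hfree] using this

include hx hgen hfree in
theorem comul_form : ∃ b : R,
    Bialgebra.comulAlgHom R A x = x ⊗ₜ[R] 1 + 1 ⊗ₜ[R] x + b • (x ⊗ₜ[R] x) := by
  obtain ⟨p, q, r, s, h⟩ := tensor_decomp hx hgen hfree (Bialgebra.comulAlgHom R A x)
  have hl := congrArg (Algebra.TensorProduct.map (ε) (AlgHom.id R A)) h
  have hr := congrArg (Algebra.TensorProduct.map (AlgHom.id R A) (ε)) h
  have hl' : Algebra.TensorProduct.map (ε) (AlgHom.id R A) (Bialgebra.comulAlgHom R A x) = 1 ⊗ₜ[R] x :=
    Coalgebra.rTensor_counit_comul x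
  have hr' : Algebra.TensorProduct.map (AlgHom.id R A) (ε) (Bialgebra.comulAlgHom R A x) = x ⊗ₜ[R] 1 :=
    Coalgebra.lTensor_counit_comul x
  rw [hl'] at hl
  rw [hr'] at hr
  replace hl := congrArg (Algebra.TensorProduct.lid R A) hl
  replace hr := congrArg (Algebra.TensorProduct.rid R R A) hr
  simp only [map_add, map_smul, AlgHom.commutes, AlgEquiv.commutes, Algebra.TensorProduct.map_tmul,
    AlgHom.id_apply, map_one, hx, Algebra.TensorProduct.lid_tmul, Algebra.TensorProduct.rid_tmul,
    zero_smul, smul_zero, add_zero, one_smul] at hl hr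
  have hp : p = 0 := by
    have hx0 : Coalgebra.counit (R := R) x = 0 := hx
    have := congrArg (ε) hl
    simpa [hx, hx0] using this.symm
  subst hp
  rw [map_zero, zero_add] at hl hr
  have h1r : r = 1 := eq_of_smul_eq hfree (by rw [one_smul]; exact hl.symm)
  have h1q : q = 1 := eq_of_smul_eq hfree (by rw [one_smul]; exact hr.symm)
  refine ⟨s, ?_⟩
  rw [h, h1r, h1q, map_zero, zero_add, one_smul, one_smul]

include hx hgen hfree in
theorem mul_eq_neg_two {a b : R} (ha : x * x = a • x)
    (hb : Bialgebra.comulAlgHom R A x = x ⊗ₜ[R] 1 + 1 ⊗ₜ[R] x + b • (x ⊗ₜ[R] x)) : a * b = -2 := by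
  obtain ⟨t, ht⟩ := hgen (HopfAlgebra.antipode R x) ((HopfAlgebra.counit_antipode x).trans hx)
  have h1 := HopfAlgebra.mul_antipode_rTensor_comul_apply (R := R) x
  change LinearMap.mul' R A ((HopfAlgebra.antipode R).rTensor A (Bialgebra.comulAlgHom R A x)) =
    algebraMap R A (ε x) at h1
  rw [hb, hx, map_zero] at h1
  simp only [map_add, map_smul, LinearMap.rTensor_tmul, LinearMap.mul'_apply, ht, HopfAlgebra.antipode_one,
    mul_one, one_mul, smul_mul_assoc, ha, smul_smul] at h1
  have h2 : t + 1 + b * (t * a) = 0 := hfree _ (by simpa [add_smul] using h1)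
  have h3 := congrArg (fun z => z * z) hb
  simp only [← map_mul, ha, map_smul] at h3
  rw [hb] at h3
  simp only [add_mul, mul_add, smul_mul_assoc, mul_smul_comm, Algebra.TensorProduct.tmul_mul_tmul, ha,
    mul_one, one_mul, ← TensorProduct.smul_tmul', TensorProduct.tmul_smul, smul_smul, smul_add] at h3
  have h4 : a * b = 2 + 4 * (a * b) + (a * b) * (a * b) := coeff_eq hx hgen hfree (by
    rw [← sub_eq_zero] at h3 ⊢
    rw [← h3]
    module)
  linear_combination (a * b + 2) * h2 + t * h4

/-- the map `x ↦ s • x'` -/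
theorem nonempty_bialgEquiv {a b : R} (ha : x * x = a • x)
    (hb : Bialgebra.comulAlgHom R A x = x ⊗ₜ[R] 1 + 1 ⊗ₜ[R] x + b • (x ⊗ₜ[R] x))
    {A' : Type v} [CommRing A'] [HopfAlgebra R A'] {x' : A'}
    (hx' : Bialgebra.counitAlgHom R A' x' = 0)
    (hgen' : ∀ f : A', Bialgebra.counitAlgHom R A' f = 0 → ∃ r : R, f = r • x')
    (hfree' : ∀ r : R, r • x' = 0 → r = 0)
    {a' b' : R} (ha' : x' * x' = a' • x')
    (hb' : Bialgebra.comulAlgHom R A' x' = x' ⊗ₜ[R] 1 + 1 ⊗ₜ[R] x' + b' • (x' ⊗ₜ[R] x'))
    (hx : Bialgebra.counitAlgHom R A x = 0)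
    (hgen : ∀ f : A, Bialgebra.counitAlgHom R A f = 0 → ∃ r : R, f = r • x)
    (hfree : ∀ r : R, r • x = 0 → r = 0)
    {s : Rˣ} (has : a = a' * (s : R)) (hbs : b' = b * (s : R)) : Nonempty (A ≃ₐc[R] A') := by
  let L : A →ₗ[R] A' := (Algebra.linearMap R A').comp (Bialgebra.counitAlgHom R A).toLinearMap +
    (coord hx hgen hfree).smulRight ((s : R) • x')
  have hL : ∀ f, L f = algebraMap R A' (ε f) + coord hx hgen hfree f • (s : R) • x' := fun f => rfl
  have hLx : L x = (s : R) • x' := by rw [hL, hx, coord_x hx hgen hfree, map_zero, zero_add, one_smul]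
  have hL1 : L 1 = 1 := by rw [hL, coord_one, map_one, map_one, zero_smul, add_zero]
  have hmul : ∀ f g, L (f * g) = L f * L g := by
    intro f g
    have h1 : ∀ r : R, L (algebraMap R A r) = algebraMap R A' r := fun r => by
      rw [Algebra.algebraMap_eq_smul_one, map_smul, hL1, ← Algebra.algebraMap_eq_smul_one]
    rw [eq_coord hx hgen hfree f, eq_coord hx hgen hfree g]
    simp only [map_add, map_smul, h1, hLx, add_mul, mul_add, ← Algebra.smul_def,
      Algebra.algebraMap_eq_smul_one, smul_mul_assoc, mul_smul_comm, one_mul, mul_one, ha, ha', hL1, smul_smul,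
      smul_add, has]
    module
  let F : A →ₐ[R] A' := AlgHom.ofLinearMap L hL1 hmul
  have hbij : Function.Bijective F := by
    constructor
    · rw [injective_iff_map_eq_zero]
      intro f hf
      change L f = 0 at hf
      rw [hL] at hf
      have h0 := congrArg (Bialgebra.counitAlgHom R A') hf
      rw [map_add, map_smul, map_smul, AlgHom.commutes, hx', smul_zero, smul_zero, add_zero, map_zero] at h0
      simp only [Algebra.algebraMap_self, RingHom.id_apply] at h0
      rw [h0, map_zero, zero_add, smul_smul] at hf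
      have h2 := hfree' _ hf
      rw [eq_coord hx hgen hfree f, h0, map_zero, zero_add, (Units.mul_left_eq_zero s).1 h2, zero_smul]
    · intro g
      refine ⟨algebraMap R A (Bialgebra.counitAlgHom R A' g) + (coord hx' hgen' hfree' g * (↑s⁻¹ : R)) • x, ?_⟩
      rw [map_add, map_smul, AlgHom.commutes]
      change _ + _ • L x = g
      rw [hLx, smul_smul, mul_assoc, Units.inv_mul, mul_one, ← eq_coord hx' hgen' hfree' g]
  refine ⟨BialgEquiv.ofAlgEquiv (AlgEquiv.ofBijective F hbij) ?_ ?_⟩
  · refine AlgHom.ext fun f => ?_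
    change Bialgebra.counitAlgHom R A' (L f) = ε f
    rw [hL, map_add, map_smul, map_smul, AlgHom.commutes, hx']
    simp
  · refine AlgHom.ext fun f => ?_
    change Algebra.TensorProduct.map F F (Bialgebra.comulAlgHom R A f) = Bialgebra.comulAlgHom R A' (F f)
    have hF : F f = algebraMap R A' (ε f) + coord hx hgen hfree f • (s : R) • x' := hL f
    have hf := eq_coord hx hgen hfree f
    have hFx : F x = (s : R) • x' := hLx
    generalize (ε) f = e, coord hx hgen hfree f = c at hf hF
    rw [hF, hf]
    simp only [map_add, map_smul, AlgHom.commutes, hb, hb', Algebra.TensorProduct.map_tmul, map_one, hFx, hbs,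
      ← TensorProduct.smul_tmul', TensorProduct.tmul_smul, smul_smul, smul_add]
    module

end Groth.Agent.OT
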